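import Cfsg.Agent.H98.HeD2

set_option autoImplicit false
set_option linter.all false

namespace Cfsg.Agent.H98.HeC

open Cfsg Cfsg.Spor Cfsg.Agent.H35

theorem heD2_gen_s0 : allR (genOK heFT heW_s0 heC_s0) 2058 12 0 = true := by decide +kernel
theorem heD2_comm_s0 : allR (commOK heW_s0) 2058 12 0 = true := by decide +kernel
theorem heD2_gen_qc0 : allR (genOK heFT heW_qc0 heC_qc0) 2058 12 0 = true := by decide +kernel
theorem heD2_comm_qc0 : allR (commOK heW_qc0) 2058 12 0 = true := by decide +kernel
theorem heD2_gen_t02 : allR (genOK heFT heW_t02 heC_t02) 2058 12 0 = true := by decide +kernel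
theorem heD2_comm_t02 : allR (commOK heW_t02) 2058 12 0 = true := by decide +kernel
theorem heD2_gen_t21 : allR (genOK heFT heW_t21 heC_t21) 2058 12 0 = true := by decide +kernel
theorem heD2_comm_t21 : allR (commOK heW_t21) 2058 12 0 = true := by decide +kernel
theorem heD2_val : allR (valOK heFT) 2058 12 0 = true := by decide +kernel

end Cfsg.Agent.H98.HeC
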