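import Cfsg.Agent.H98.HeD2

set_option autoImplicit false
set_option linter.all false

namespace Cfsg.Agent.H98.HeC

open Cfsg Cfsg.Spor Cfsg.Agent.H35

theorem heD2_gen_qu1 : allR (genOK heFT heW_qu1 heC_qu1) 2058 12 0 = true := by decide +kernel
theorem heD2_comm_qu1 : allR (commOK heW_qu1) 2058 12 0 = true := by decide +kernel
theorem heD2_gen_qc2 : allR (genOK heFT heW_qc2 heC_qc2) 2058 12 0 = true := by decide +kernel
theorem heD2_comm_qc2 : allR (commOK heW_qc2) 2058 12 0 = true := by decide +kernel
theorem heD2_gen_t12 : allR (genOK heFT heW_t12 heC_t12) 2058 12 0 = true := by decide +kernel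
theorem heD2_comm_t12 : allR (commOK heW_t12) 2058 12 0 = true := by decide +kernel

end Cfsg.Agent.H98.HeC
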