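import Cfsg.Agent.H98.HeD2

set_option autoImplicit false
set_option linter.all false

namespace Cfsg.Agent.H98.HeC

open Cfsg Cfsg.Spor Cfsg.Agent.H35

theorem heD2_gen_qu2 : allR (genOK heFT heW_qu2 heC_qu2) 2058 12 0 = true := by decide +kernel
theorem heD2_comm_qu2 : allR (commOK heW_qu2) 2058 12 0 = true := by decide +kernel
theorem heD2_gen_t01 : allR (genOK heFT heW_t01 heC_t01) 2058 12 0 = true := by decide +kernel
theorem heD2_comm_t01 : allR (commOK heW_t01) 2058 12 0 = true := by decide +kernel
theorem heD2_gen_t20 : allR (genOK heFT heW_t20 heC_t20) 2058 12 0 = true := by decide +kernel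
theorem heD2_comm_t20 : allR (commOK heW_t20) 2058 12 0 = true := by decide +kernel

end Cfsg.Agent.H98.HeC
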