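import Cfsg.Agent.H98.HeD1z
import Cfsg.Agent.H98.HeD2c0
import Cfsg.Agent.H98.HeD2c1
import Cfsg.Agent.H98.HeD2c2
import Cfsg.Agent.H98.HeD2c3

set_option autoImplicit false

/-!
# The centraliser of the generator `e` of the presented Held group (helper98)

If the presented group `He` is simple of order `4030387200`, the centraliser of its generator `e`
is isomorphic to the centraliser of a transvection of `SL(5, 2)`.
-/

namespace Cfsg.Agent.H98.HeC

open Cfsg Cfsg.Spor Cfsg.Agent.H35 Cfsg.Agent.H9 Matrix Cfsg.Agent.H98.TransvCent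
  Cfsg.Agent.H98.C2A

theorem heD2_valOK : ∀ x, x < 2058 → valOK heFT x = true :=
  allR_all _ 2058 12 (by norm_num) heD2_val

theorem heD2_dist : ∀ i ∈ ptL, ∀ j ∈ ptL, fld 16 (heFT 5) i = fld 16 (heFT 5) j →
    fld 16 (heFT 11) i = fld 16 (heFT 11) j → i = j := by decide +kernel

theorem heD2_th5 : inTh heFT 5 = true := by decide +kernel

theorem heD2_th11 : inTh heFT 11 = true := by decide +kernel

/-- the action of a unipotent element on the sixteen indices -/
theorem qcode (a : ZMod 2) (u c : Fin 3 → ZMod 2) (code : ℕ)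
    (h : qCodes.getD (qIdx a (u 0) (u 1) (u 2) (c 0) (c 1) (c 2)) 0 = code) :
    ∀ p : GolayPt, z0 p ≠ p → gIdx (act16 (qG a u c).1.1 p) = lk code (gIdx p) := by
  intro p hp
  have h1 := qCodes_act a (u 0) (u 1) (u 2) (c 0) (c 1) (c 2) p hp
  rw [h] at h1
  have e : ((qG a u c).1.1 : Matrix (Fin 5) (Fin 5) (ZMod 2)) =
      mkM a ![u 0, u 1, u 2] ![c 0, c 1, c 2] 1 := by
    show mkM a u c 1 = _
    rw [← eta3 u, ← eta3 c]
  rw [e]
  exact h1

/-- the action of a block transvection on the sixteen indices -/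
theorem tcode (i j : Fin 3) (hij : i ≠ j) (code : ℕ) (h : tCode i j = code) :
    ∀ p : GolayPt, z0 p ≠ p →
      gIdx (act16 (iotaG (SpecialLinearGroup.transvection hij 1)).1.1 p) = lk code (gIdx p) := by
  intro p hp
  rw [← h]
  exact (tCode_spec i j hij).2 p hp

section Main

variable {ρ : He →* Equiv.Perm (Fin 2058)} [Finite He]

/-- a checked generator lies in the second projection of the graph -/
theorem gen_mem (hρ : Rep ρ) (hs : IsSimpleGroup He) (W : List He.Gen) (code : ℕ) (g : Gam)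
    (hcode : ∀ p : GolayPt, z0 p ≠ p → gIdx (act16 g.1.1 p) = lk code (gIdx p))
    (hgen : allR (genOK heFT W code) 2058 12 0 = true)
    (hcomm : allR (commOK W) 2058 12 0 = true) :
    g ∈ (sgOfSubmonoid (Gm ρ heFT)).map (MonoidHom.snd He Gam) := by
  refine Subgroup.mem_map.mpr ⟨((uw he_gen W)⁻¹, g), ?_, rfl⟩
  exact (mem_sgOfSubmonoid _ _).mpr (mem_Gm.mpr
    ⟨mem_centralizer_of_commOK hρ hs W (allR_all _ 2058 12 (by norm_num) hcomm),
      rel_of_genOK hρ heD2_valOK W code g hcode (allR_all _ 2058 12 (by norm_num) hgen)⟩)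

theorem forall_fin3 {P : Fin 3 → Prop} (h0 : P 0) (h1 : P 1) (h2 : P 2) : ∀ i, P i := by
  intro i
  fin_cases i
  · exact h0
  · exact h1
  · exact h2

theorem snd_surj (hρ : Rep ρ) (hs : IsSimpleGroup He) :
    (sgOfSubmonoid (Gm ρ heFT)).map (MonoidHom.snd He Gam) = ⊤ := by
  apply gam_closure
  · exact gen_mem hρ hs heW_s0 heC_s0 _ (qcode 1 0 0 _ (by decide +kernel)) heD2_gen_s0
      heD2_comm_s0
  · apply forall_fin3
    · exact gen_mem hρ hs heW_qu0 heC_qu0 _ (qcode 0 _ 0 _ (by decide +kernel)) heD2_gen_qu0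
        heD2_comm_qu0
    · exact gen_mem hρ hs heW_qu1 heC_qu1 _ (qcode 0 _ 0 _ (by decide +kernel)) heD2_gen_qu1
        heD2_comm_qu1
    · exact gen_mem hρ hs heW_qu2 heC_qu2 _ (qcode 0 _ 0 _ (by decide +kernel)) heD2_gen_qu2
        heD2_comm_qu2
  · apply forall_fin3
    · exact gen_mem hρ hs heW_qc0 heC_qc0 _ (qcode 0 0 _ _ (by decide +kernel)) heD2_gen_qc0
        heD2_comm_qc0
    · exact gen_mem hρ hs heW_qc1 heC_qc1 _ (qcode 0 0 _ _ (by decide +kernel)) heD2_gen_qc1
        heD2_comm_qc1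
    · exact gen_mem hρ hs heW_qc2 heC_qc2 _ (qcode 0 0 _ _ (by decide +kernel)) heD2_gen_qc2
        heD2_comm_qc2
  · have h01 : ∀ hij : (0 : Fin 3) ≠ 1, iotaG (SpecialLinearGroup.transvection hij 1) ∈
        (sgOfSubmonoid (Gm ρ heFT)).map (MonoidHom.snd He Gam) := fun hij =>
      gen_mem hρ hs heW_t01 heC_t01 _ (tcode 0 1 hij _ (by decide +kernel)) heD2_gen_t01
        heD2_comm_t01
    have h02 : ∀ hij : (0 : Fin 3) ≠ 2, iotaG (SpecialLinearGroup.transvection hij 1) ∈
        (sgOfSubmonoid (Gm ρ heFT)).map (MonoidHom.snd He Gam) := fun hij =>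
      gen_mem hρ hs heW_t02 heC_t02 _ (tcode 0 2 hij _ (by decide +kernel)) heD2_gen_t02
        heD2_comm_t02
    have h10 : ∀ hij : (1 : Fin 3) ≠ 0, iotaG (SpecialLinearGroup.transvection hij 1) ∈
        (sgOfSubmonoid (Gm ρ heFT)).map (MonoidHom.snd He Gam) := fun hij =>
      gen_mem hρ hs heW_t10 heC_t10 _ (tcode 1 0 hij _ (by decide +kernel)) heD2_gen_t10
        heD2_comm_t10
    have h12 : ∀ hij : (1 : Fin 3) ≠ 2, iotaG (SpecialLinearGroup.transvection hij 1) ∈
        (sgOfSubmonoid (Gm ρ heFT)).map (MonoidHom.snd He Gam) := fun hij =>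
      gen_mem hρ hs heW_t12 heC_t12 _ (tcode 1 2 hij _ (by decide +kernel)) heD2_gen_t12
        heD2_comm_t12
    have h20 : ∀ hij : (2 : Fin 3) ≠ 0, iotaG (SpecialLinearGroup.transvection hij 1) ∈
        (sgOfSubmonoid (Gm ρ heFT)).map (MonoidHom.snd He Gam) := fun hij =>
      gen_mem hρ hs heW_t20 heC_t20 _ (tcode 2 0 hij _ (by decide +kernel)) heD2_gen_t20
        heD2_comm_t20
    have h21 : ∀ hij : (2 : Fin 3) ≠ 1, iotaG (SpecialLinearGroup.transvection hij 1) ∈
        (sgOfSubmonoid (Gm ρ heFT)).map (MonoidHom.snd He Gam) := fun hij =>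
      gen_mem hρ hs heW_t21 heC_t21 _ (tcode 2 1 hij _ (by decide +kernel)) heD2_gen_t21
        heD2_comm_t21
    intro i j hij
    fin_cases i <;> fin_cases j <;>
      first
        | exact absurd rfl hij
        | exact h01 hij
        | exact h02 hij
        | exact h10 hij
        | exact h12 hij
        | exact h20 hij
        | exact h21 hij

end Main

/-- the centraliser of `e` is isomorphic to the linear centraliser -/
theorem he_centralizer_equiv (hHe : IsHe He) :
    Nonempty (Subgroup.centralizer ({he_gen He.Gen.e} : Set He) ≃* Gam) := by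
  obtain ⟨hs, hcard⟩ := hHe
  have hfin : Finite He := Nat.finite_of_card_ne_zero (by rw [hcard]; norm_num)
  obtain ⟨ρ, hρ⟩ := exists_rep
  refine equiv_of_graph (ρ := ρ) (FT := heFT) (x1 := 5) (x2 := 11) (by norm_num) (by norm_num)
    heD2_th5 heD2_th11 heD2_dist (he_card_centralizer_le hcard hρ) ?_
  intro M
  have hM : M ∈ (sgOfSubmonoid (Gm ρ heFT)).map (MonoidHom.snd He Gam) := by
    rw [snd_surj hρ hs]
    trivial
  obtain ⟨⟨k, M'⟩, hk, rfl⟩ := Subgroup.mem_map.mp hM
  exact ⟨k, (mem_sgOfSubmonoid _ _).mp hk⟩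

theorem heD1_e5 : wk [He.Gen.e] 5 ≠ 5 := by decide +kernel

theorem he_e_order : orderOf (he_gen He.Gen.e) = 2 := by
  apply orderOf_eq_prime
  · rw [pow_two]
    exact he_inv _
  · intro h
    obtain ⟨ρ, hρ⟩ := exists_rep
    have h1 := hρ.ap_inv_uw [He.Gen.e] (by norm_num : (5 : ℕ) < 2058)
    rw [uw_singleton, h, inv_one, map_one, ap_one] at h1
    exact heD1_e5 h1.symm

/-- the statement: the presented Held group has an involution whose centraliser is isomorphic
to the centraliser of a transvection of `SL(5, 2)` -/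
theorem he_main (hHe : IsHe He) (s : Matrix.SpecialLinearGroup (Fin 5) (ZMod 2))
    (hs : (s : Matrix (Fin 5) (Fin 5) (ZMod 2)) = Matrix.transvection 0 1 1) :
    ∃ z : He, orderOf z = 2 ∧
      Nonempty (↥(Subgroup.centralizer ({z} : Set He)) ≃*
        ↥(Subgroup.centralizer ({s} : Set (Matrix.SpecialLinearGroup (Fin 5) (ZMod 2))))) := by
  have hs0 : s = s0 := Subtype.ext hs
  subst hs0
  exact ⟨he_gen He.Gen.e, he_e_order, he_centralizer_equiv hHe⟩

end Cfsg.Agent.H98.HeC
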