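import Mathlib
import Cfsg.Agent.H13.SchDefs
import Cfsg.Agent.H66.HHA
import Cfsg.Agent.H80.PSolvable
import Cfsg.Agent.H80.GroupBasic

set_option autoImplicit false

/-!
# Piece S4394-P4 (helper98, for helper13): the quotient by the derived subgroup of `O_p(G)`.
-/

namespace Cfsg.Agent.H98.Sch

open scoped commutatorElement
open Cfsg
open Cfsg.Agent.H13.Sch

/-- piece S4394-P4. -/
theorem quot_facts {G : Type*} [Group G] [Finite G] (p : ℕ) [Fact p.Prime]
    (hsol : Cfsg.IsPSolvable p G) (hO : pPrimeCore p G = ⊥) (N : Subgroup G) [N.Normal]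
    (hN : N = (commutator ↥(pCore p G)).map (pCore p G).subtype) :
    pCore p (G ⧸ N) = (pCore p G).map (QuotientGroup.mk' N) ∧
    (∀ a ∈ pCore p (G ⧸ N), ∀ b ∈ pCore p (G ⧸ N), a * b = b * a) ∧
    Subgroup.centralizer ((pCore p (G ⧸ N) : Subgroup (G ⧸ N)) : Set (G ⧸ N)) ≤
      pCore p (G ⧸ N) := by
  have hVn : (pCore p G).Normal := Cfsg.Agent.H80.pCore_normal p G
  have hVp : IsPGroup p (pCore p G) := Cfsg.Agent.H80.pCore_isPGroup p G
  have hNV : N ≤ pCore p G := by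
    rw [hN]
    rintro _ ⟨x, _, rfl⟩
    exact x.2
  have hmemN : ∀ x : pCore p G, (x : G) ∈ N → x ∈ commutator ↥(pCore p G) := by
    intro x hx
    rw [hN] at hx
    obtain ⟨y, hy, hyx⟩ := hx
    have : y = x := Subtype.ext hyx
    rw [← this]; exact hy
  have hcommN : ∀ u ∈ pCore p G, ∀ v ∈ pCore p G, ⁅u, v⁆ ∈ N := by
    intro u hu v hv
    rw [hN]
    refine ⟨⁅(⟨u, hu⟩ : pCore p G), ⟨v, hv⟩⁆, ?_, rfl⟩
    rw [commutator_def]
    exact Subgroup.commutator_mem_commutator (Subgroup.mem_top _) (Subgroup.mem_top _)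
  have h1 : pCore p (G ⧸ N) = (pCore p G).map (QuotientGroup.mk' N) := by
    apply le_antisymm
    · have hKn : (pCore p (G ⧸ N)).Normal := Cfsg.Agent.H80.pCore_normal p (G ⧸ N)
      have hKp : IsPGroup p (pCore p (G ⧸ N)) := Cfsg.Agent.H80.pCore_isPGroup p (G ⧸ N)
      have hcp : IsPGroup p ((pCore p (G ⧸ N)).comap (QuotientGroup.mk' N)) := by
        intro g
        obtain ⟨k, hk⟩ := hKp ⟨QuotientGroup.mk' N g.1, g.2⟩
        have h1 : (g.1 ^ p ^ k : G) ∈ N := by
          rw [← QuotientGroup.eq_one_iff]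
          exact congrArg Subtype.val hk
        obtain ⟨l, hl⟩ := hVp ⟨_, hNV h1⟩
        refine ⟨k + l, ?_⟩
        apply Subtype.ext
        have : (g.1 ^ p ^ k) ^ p ^ l = 1 := congrArg Subtype.val hl
        rw [pow_add, pow_mul]
        exact this
      have hle : (pCore p (G ⧸ N)).comap (QuotientGroup.mk' N) ≤ pCore p G :=
        Cfsg.Agent.H80.le_pCore p _ (hKn.comap _) hcp
      intro z hz
      obtain ⟨g, rfl⟩ := QuotientGroup.mk'_surjective N z
      exact ⟨g, hle hz, rfl⟩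
    · apply Cfsg.Agent.H80.le_pCore p _ (hVn.map _ (QuotientGroup.mk'_surjective N))
      exact hVp.map _
  refine ⟨h1, ?_, ?_⟩
  · intro a ha b hb
    rw [h1] at ha hb
    obtain ⟨u, hu, rfl⟩ := ha
    obtain ⟨v, hv, rfl⟩ := hb
    rw [← map_mul, ← map_mul]
    apply QuotientGroup.eq.mpr
    have := hcommN v⁻¹ (inv_mem hv) u⁻¹ (inv_mem hu)
    have e : (u * v)⁻¹ * (v * u) = ⁅v⁻¹, u⁻¹⁆ := by
      rw [commutatorElement_def]; group
    rw [e]; exact this
  · intro z hz
    obtain ⟨g, rfl⟩ := QuotientGroup.mk'_surjective N z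
    rw [h1]
    refine ⟨g, ?_, rfl⟩
    apply Cfsg.Agent.H66.mem_pCore_of_theta_eq_one p
      (Cfsg.Agent.H80.centralizer_pCore_le p hsol hO) g
    ext m
    obtain ⟨u, rfl⟩ := Cfsg.Agent.S4227.exists_rep (pCore p G) m
    rw [Cfsg.Agent.S4227.theta_apply]
    apply congrArg Additive.ofMul
    apply QuotientGroup.eq.mpr
    apply hmemN
    have hu : QuotientGroup.mk' N (u : G) ∈ pCore p (G ⧸ N) := by
      rw [h1]; exact ⟨u, u.2, rfl⟩
    have hc := (Subgroup.mem_centralizer_iff.mp hz) _ hu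
    -- hc : mk u * mk g = mk g * mk u
    have hc2 : QuotientGroup.mk' N ((u : G) * g) = QuotientGroup.mk' N (g * (u : G)) := by
      rw [map_mul, map_mul]; exact hc
    have hc3 := QuotientGroup.eq.mp hc2
    have e : (((MulAut.conjNormal g u)⁻¹ * u : pCore p G) : G) =
        g * (((u : G) * g)⁻¹ * (g * (u : G)))⁻¹ * g⁻¹ := by
      rw [Subgroup.coe_mul, Subgroup.coe_inv, MulAut.conjNormal_apply]; group
    rw [e]
    exact (inferInstance : N.Normal).conj_mem _ (N.inv_mem hc3) g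

end Cfsg.Agent.H98.Sch
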