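import Mathlib
import Cfsg.Agent.H45.SLGen
import Cfsg.Agent.S0242

set_option autoImplicit false

/-!
# The centraliser of a transvection in `SL(5, 2)` (helper98)

`s0 = 1 + E₀₁`.  Its centraliser `Γ` consists of the matrices `mkM a u c B` (first column `e₀`,
second row `e₁ᵀ`), `B ∈ SL(3, 2)`; it has order `2⁷ · 168` and is generated by the 128 unipotent
elements `qS a u c` and the images `iota T` of the elementary transvections of `SL(3, 2)`.
-/

namespace Cfsg.Agent.H98.TransvCent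

open Matrix

/-- the transvection `1 + E₀₁` of `SL(5, 2)` -/
def s0 : SpecialLinearGroup (Fin 5) (ZMod 2) :=
  SpecialLinearGroup.transvection (i := (0 : Fin 5)) (j := 1) (by decide) 1

/-- the general matrix with first column `e₀` and second row `e₁ᵀ` -/
def mkM (a : ZMod 2) (u c : Fin 3 → ZMod 2) (B : Matrix (Fin 3) (Fin 3) (ZMod 2)) :
    Matrix (Fin 5) (Fin 5) (ZMod 2) :=
  !![1, a, u 0, u 1, u 2;
     0, 1, 0, 0, 0;
     0, c 0, B 0 0, B 0 1, B 0 2;
     0, c 1, B 1 0, B 1 1, B 1 2;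
     0, c 2, B 2 0, B 2 1, B 2 2]

theorem mkM_mul (a a' : ZMod 2) (u u' c c' : Fin 3 → ZMod 2)
    (B B' : Matrix (Fin 3) (Fin 3) (ZMod 2)) :
    mkM a u c B * mkM a' u' c' B' =
      mkM (a + a' + u ⬝ᵥ c') (u' + u ᵥ* B') (c + B *ᵥ c') (B * B') := by
  ext i j
  fin_cases i <;> fin_cases j <;>
    simp [mkM, Matrix.mul_apply, Fin.sum_univ_five, Fin.sum_univ_three, dotProduct,
      Matrix.vecMul, Matrix.mulVec] <;> ring

theorem mkM_one : mkM 0 0 0 1 = 1 := by
  ext i j
  fin_cases i <;> fin_cases j <;> simp [mkM, Matrix.one_apply]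

/-- the lower right block -/
def blk (A : Matrix (Fin 5) (Fin 5) (ZMod 2)) : Matrix (Fin 3) (Fin 3) (ZMod 2) :=
  !![A 2 2, A 2 3, A 2 4; A 3 2, A 3 3, A 3 4; A 4 2, A 4 3, A 4 4]

theorem blk_mkM (a : ZMod 2) (u c : Fin 3 → ZMod 2) (B : Matrix (Fin 3) (Fin 3) (ZMod 2)) :
    blk (mkM a u c B) = B := by
  ext i j
  fin_cases i <;> fin_cases j <;> rfl

theorem mkM_inj {a a' : ZMod 2} {u u' c c' : Fin 3 → ZMod 2}
    {B B' : Matrix (Fin 3) (Fin 3) (ZMod 2)} (h : mkM a u c B = mkM a' u' c' B') :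
    a = a' ∧ u = u' ∧ c = c' ∧ B = B' := by
  refine ⟨?_, ?_, ?_, ?_⟩
  · exact congrFun (congrFun h 0) 1
  · funext k
    fin_cases k
    · exact congrFun (congrFun h 0) 2
    · exact congrFun (congrFun h 0) 3
    · exact congrFun (congrFun h 0) 4
  · funext k
    fin_cases k
    · exact congrFun (congrFun h 2) 1
    · exact congrFun (congrFun h 3) 1
    · exact congrFun (congrFun h 4) 1
  · rw [← blk_mkM a u c B, h, blk_mkM]

theorem zmod2_eq_one : ∀ x : ZMod 2, x ≠ 0 → x = 1 := by decide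

theorem det_eq_one_of_mul {n : Type*} [Fintype n] [DecidableEq n]
    {A A' : Matrix n n (ZMod 2)} (h : A * A' = 1) : A.det = 1 := by
  apply zmod2_eq_one
  intro h0
  have h1 := congrArg Matrix.det h
  rw [Matrix.det_mul, h0, zero_mul, Matrix.det_one] at h1
  exact zero_ne_one h1

theorem add_self_fun (c : Fin 3 → ZMod 2) : c + c = 0 := by
  funext i
  exact CharTwo.add_self_eq_zero _

/-- the unipotent elements -/
def qS (a : ZMod 2) (u c : Fin 3 → ZMod 2) : SpecialLinearGroup (Fin 5) (ZMod 2) :=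
  ⟨mkM a u c 1, det_eq_one_of_mul (A' := mkM (a + u ⬝ᵥ c) u c 1) (by
    have h : a + (a + u ⬝ᵥ c) + u ⬝ᵥ c = 0 := by
      have h1 := CharTwo.add_self_eq_zero (a + u ⬝ᵥ c)
      rw [← h1]
      ring
    rw [mkM_mul, Matrix.vecMul_one, Matrix.one_mulVec, add_self_fun, add_self_fun, mul_one, h,
      mkM_one])⟩

theorem qS_val (a : ZMod 2) (u c : Fin 3 → ZMod 2) : (qS a u c).1 = mkM a u c 1 := rfl

/-- the block embedding of `SL(3, 2)` -/
def iota : SpecialLinearGroup (Fin 3) (ZMod 2) →* SpecialLinearGroup (Fin 5) (ZMod 2) where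
  toFun B := ⟨mkM 0 0 0 B.1, det_eq_one_of_mul (A' := mkM 0 0 0 (B⁻¹).1) (by
    have h : B.1 * (B⁻¹).1 = 1 := congrArg Subtype.val (mul_inv_cancel B)
    rw [mkM_mul, h]
    simp [mkM_one])⟩
  map_one' := by
    apply Subtype.ext
    exact mkM_one
  map_mul' B B' := by
    apply Subtype.ext
    show mkM 0 0 0 (B.1 * B'.1) = mkM 0 0 0 B.1 * mkM 0 0 0 B'.1
    rw [mkM_mul]
    simp

theorem iota_val (B : SpecialLinearGroup (Fin 3) (ZMod 2)) : (iota B).1 = mkM 0 0 0 B.1 := rfl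

theorem s0_val : s0.1 = mkM 1 0 0 1 := by
  ext i j
  fin_cases i <;> fin_cases j <;>
    simp [s0, SpecialLinearGroup.transvection, Matrix.transvection, mkM, Matrix.one_apply,
      Matrix.single_apply]

theorem s0_eq : s0 = qS 1 0 0 := Subtype.ext s0_val

/-- the product formula for the general element -/
theorem prod_val (a : ZMod 2) (u c : Fin 3 → ZMod 2) (B : SpecialLinearGroup (Fin 3) (ZMod 2)) :
    (qS 0 0 c * iota B * qS a u 0).1 = mkM a u c B.1 := by
  show mkM 0 0 c 1 * mkM 0 0 0 B.1 * mkM a u 0 1 = mkM a u c B.1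
  rw [mkM_mul, mkM_mul]
  simp

theorem qS_mem (a : ZMod 2) (u c : Fin 3 → ZMod 2) : qS a u c ∈ Subgroup.centralizer {s0} := by
  rw [Subgroup.mem_centralizer_iff]
  intro h hh
  rw [Set.mem_singleton_iff] at hh
  subst hh
  apply Subtype.ext
  rw [s0_eq]
  show mkM 1 0 0 1 * mkM a u c 1 = mkM a u c 1 * mkM 1 0 0 1
  rw [mkM_mul, mkM_mul]
  simp [add_comm]

theorem iota_mem (B : SpecialLinearGroup (Fin 3) (ZMod 2)) :
    iota B ∈ Subgroup.centralizer {s0} := by
  rw [Subgroup.mem_centralizer_iff]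
  intro h hh
  rw [Set.mem_singleton_iff] at hh
  subst hh
  apply Subtype.ext
  rw [s0_eq]
  show mkM 1 0 0 1 * mkM 0 0 0 B.1 = mkM 0 0 0 B.1 * mkM 1 0 0 1
  rw [mkM_mul, mkM_mul]
  simp

/-! ### The shape of the elements of the centraliser -/

theorem zmod2_cases : ∀ x : ZMod 2, x = 0 ∨ x = 1 := by decide

/-- entries of an element of the centraliser: first column `e₀`, second row `e₁ᵀ` -/
theorem entries_of_mem {M : SpecialLinearGroup (Fin 5) (ZMod 2)}
    (hM : M ∈ Subgroup.centralizer {s0}) :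
    (∀ i : Fin 5, M.1 i 0 = if i = 0 then 1 else 0) ∧
      (∀ j : Fin 5, M.1 1 j = if j = 1 then 1 else 0) := by
  rw [Subgroup.mem_centralizer_iff] at hM
  have hm : Matrix.transvection (0 : Fin 5) 1 (1 : ZMod 2) * M.1 =
      M.1 * Matrix.transvection 0 1 1 := congrArg Subtype.val (hM s0 rfl)
  have e1 : ∀ j : Fin 5, j ≠ 1 → M.1 1 j = 0 := by
    intro j hj
    have h := congrFun (congrFun hm 0) j
    simp [hj] at h
    exact h
  have e2 : ∀ i : Fin 5, i ≠ 0 → M.1 i 0 = 0 := by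
    intro i hi
    have h := congrFun (congrFun hm i) 1
    simp [hi] at h
    exact h
  have e3 : M.1 1 1 = M.1 0 0 := by
    have h := congrFun (congrFun hm 0) 1
    simp at h
    exact h
  have e4 : M.1 0 0 = 1 := by
    rcases zmod2_cases (M.1 0 0) with h0 | h0
    · exfalso
      have hdet : M.1.det = 0 := Matrix.det_eq_zero_of_column_eq_zero 0 (fun i => by
        by_cases hi : i = 0
        · rw [hi, h0]
        · exact e2 i hi)
      rw [M.2] at hdet
      exact one_ne_zero hdet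
    · exact h0
  refine ⟨fun i => ?_, fun j => ?_⟩
  · split_ifs with hi
    · rw [hi, e4]
    · exact e2 i hi
  · split_ifs with hj
    · rw [hj, e3, e4]
    · exact e1 j hj

/-- an element of the centraliser is of the form `mkM` -/
theorem eq_mkM {M : SpecialLinearGroup (Fin 5) (ZMod 2)} (hM : M ∈ Subgroup.centralizer {s0}) :
    M.1 = mkM (M.1 0 1) ![M.1 0 2, M.1 0 3, M.1 0 4] ![M.1 2 1, M.1 3 1, M.1 4 1] (blk M.1) := by
  obtain ⟨h1, h2⟩ := entries_of_mem hM
  have c0 : M.1 0 0 = 1 := by simpa using h1 0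
  have c1 : M.1 1 0 = 0 := by simpa using h1 1
  have c2 : M.1 2 0 = 0 := by simpa using h1 2
  have c3 : M.1 3 0 = 0 := by simpa using h1 3
  have c4 : M.1 4 0 = 0 := by simpa using h1 4
  have r1 : M.1 1 1 = 1 := by simpa using h2 1
  have r2 : M.1 1 2 = 0 := by simpa using h2 2
  have r3 : M.1 1 3 = 0 := by simpa using h2 3
  have r4 : M.1 1 4 = 0 := by simpa using h2 4
  ext i j
  fin_cases i <;> fin_cases j <;>
    first
      | rfl
      | exact c0
      | exact c1
      | exact c2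
      | exact c3
      | exact c4
      | exact r1
      | exact r2
      | exact r3
      | exact r4

/-- the block of an element of the centraliser has determinant `1` -/
theorem det_blk {M : SpecialLinearGroup (Fin 5) (ZMod 2)} (hM : M ∈ Subgroup.centralizer {s0}) :
    (blk M.1).det = 1 := by
  have hM' : M⁻¹ ∈ Subgroup.centralizer {s0} := Subgroup.inv_mem _ hM
  have e : (M⁻¹).1 = M.1.adjugate := rfl
  have h : M.1 * (M⁻¹).1 = 1 := by
    rw [e, Matrix.mul_adjugate, M.2, one_smul]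
  apply det_eq_one_of_mul (A' := blk (M⁻¹).1)
  have h2 := congrArg blk h
  rw [eq_mkM hM, eq_mkM hM', mkM_mul, blk_mkM, ← mkM_one, blk_mkM] at h2
  exact h2

/-- the decomposition of an element of the centraliser -/
theorem decomp {M : SpecialLinearGroup (Fin 5) (ZMod 2)} (hM : M ∈ Subgroup.centralizer {s0}) :
    ∃ (a : ZMod 2) (u c : Fin 3 → ZMod 2) (B : SpecialLinearGroup (Fin 3) (ZMod 2)),
      M = qS 0 0 c * iota B * qS a u 0 := by
  refine ⟨M.1 0 1, ![M.1 0 2, M.1 0 3, M.1 0 4], ![M.1 2 1, M.1 3 1, M.1 4 1],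
    ⟨blk M.1, det_blk hM⟩, ?_⟩
  apply Subtype.ext
  exact (eq_mkM hM).trans (prod_val (M.1 0 1) ![M.1 0 2, M.1 0 3, M.1 0 4]
    ![M.1 2 1, M.1 3 1, M.1 4 1] ⟨blk M.1, det_blk hM⟩).symm

theorem prod_mem (a : ZMod 2) (u c : Fin 3 → ZMod 2) (B : SpecialLinearGroup (Fin 3) (ZMod 2)) :
    qS 0 0 c * iota B * qS a u 0 ∈ Subgroup.centralizer {s0} :=
  Subgroup.mul_mem _ (Subgroup.mul_mem _ (qS_mem _ _ _) (iota_mem _)) (qS_mem _ _ _)

/-! ### The order -/

theorem card_SL3 : Nat.card (SpecialLinearGroup (Fin 3) (ZMod 2)) = 168 := by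
  have h := Cfsg.Agent.S0242.result (F := ZMod 2) (q := 2) (by rw [ZMod.card]) 3 (by norm_num)
  have hprod : ∏ i : Fin 3, (2 ^ 3 - 2 ^ (i : ℕ)) = 168 := by
    rw [Fin.prod_univ_three]
    norm_num
  rw [hprod] at h
  omega

theorem card_centralizer_ge : 21504 ≤ Nat.card (Subgroup.centralizer {s0}) := by
  let f : (ZMod 2 × (Fin 3 → ZMod 2) × (Fin 3 → ZMod 2)) × SpecialLinearGroup (Fin 3) (ZMod 2) →
      Subgroup.centralizer {s0} := fun x =>
    ⟨qS 0 0 x.1.2.2 * iota x.2 * qS x.1.1 x.1.2.1 0, prod_mem _ _ _ _⟩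
  have hf : Function.Injective f := by
    rintro ⟨⟨a, u, c⟩, B⟩ ⟨⟨a', u', c'⟩, B'⟩ h
    have h1 : (qS 0 0 c * iota B * qS a u 0).1 = (qS 0 0 c' * iota B' * qS a' u' 0).1 :=
      congrArg (fun x : Subgroup.centralizer {s0} => x.1.1) h
    rw [prod_val, prod_val] at h1
    obtain ⟨ha, hu, hc, hB⟩ := mkM_inj h1
    have hB' : B = B' := Subtype.ext hB
    rw [ha, hu, hc, hB']
  have hc : Nat.card ((ZMod 2 × (Fin 3 → ZMod 2) × (Fin 3 → ZMod 2)) ×
      SpecialLinearGroup (Fin 3) (ZMod 2)) = 21504 := by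
    rw [Nat.card_prod, card_SL3, Nat.card_eq_fintype_card]
    have : Fintype.card (ZMod 2 × (Fin 3 → ZMod 2) × (Fin 3 → ZMod 2)) = 128 := by
      simp [ZMod.card]
    rw [this]
  rw [← hc]
  exact Nat.card_le_card_of_injective f hf

end Cfsg.Agent.H98.TransvCent
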