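import Mathlib
import Cfsg.Agent.H44.SpODefs
import Cfsg.Agent.H45.SpTwoGen

/-!
# SPO-MOVE (helper98, for helper44's S2347 part A): the Levi elements normalize the Siegel radical.
-/

set_option autoImplicit false

namespace Cfsg.Agent.H98.SpO

open Matrix Module Cfsg.Agent.H17 Cfsg.Agent.H44.SpL Cfsg.Agent.H44.SpO

universe u

theorem symOf_eq {F : Type u} [Field F] (n : ℕ) (a : Fin n × Fin n → F) :
    symOf n a = toMat n a + (toMat n a)ᵀ := by
  ext i j
  rfl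

theorem symOf_congL {F : Type u} [Field F] (n : ℕ) (D : Matrix (Fin n) (Fin n) F)
    (a : Fin n × Fin n → F) : symOf n (congL n D a) = D * symOf n a * Dᵀ := by
  rw [symOf_eq, symOf_eq]
  show D * toMat n a * Dᵀ + (D * toMat n a * Dᵀ)ᵀ = D * (toMat n a + (toMat n a)ᵀ) * Dᵀ
  simp only [Matrix.transpose_mul, Matrix.transpose_transpose, Matrix.mul_add, Matrix.add_mul,
    Matrix.mul_assoc]

/-- **SPO-MOVE**. -/
theorem move : StMove.{u} := by
  intro F _ m D hD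
  have h1 : D⁻¹ * D = 1 := Matrix.nonsing_inv_mul D hD
  refine ⟨⟨Matrix.fromBlocks D⁻¹ 0 0 Dᵀ, Cfsg.Agent.H45.diag_mem_sp D⁻¹ D h1⟩, ?_⟩
  intro a
  apply Subtype.ext
  show Matrix.fromBlocks 1 (symOf (m + 1) a) 0 1 * Matrix.fromBlocks D⁻¹ 0 0 Dᵀ =
    Matrix.fromBlocks D⁻¹ 0 0 Dᵀ * Matrix.fromBlocks 1 (symOf (m + 1) (congL (m + 1) D a)) 0 1
  rw [Matrix.fromBlocks_multiply, Matrix.fromBlocks_multiply, symOf_congL]
  congr 1
  · simp
  · simp only [Matrix.zero_mul, Matrix.mul_zero, Matrix.one_mul, Matrix.mul_one, zero_add, add_zero]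
    rw [← Matrix.mul_assoc, ← Matrix.mul_assoc, h1, Matrix.one_mul]
  · simp
  · simp

example : StMove.{u} := move

end Cfsg.Agent.H98.SpO
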