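import Mathlib
import Cfsg.Agent.H44.SpODefs
import Cfsg.Agent.H45.SpTwoGen

/-!
# SPO-Y (helper98, for helper44's S2347 part A): `ysym` is additive; the two root groups inside it.
-/

set_option autoImplicit false

namespace Cfsg.Agent.H98.SpO

open Matrix Module Cfsg.Agent.H17 Cfsg.Agent.H44.SpL Cfsg.Agent.H44.SpO

universe u

theorem symOf_add {F : Type u} [Field F] (n : ℕ) (a b : Fin n × Fin n → F) :
    symOf n (a + b) = symOf n a + symOf n b := by
  ext i j
  simp only [symOf, Matrix.of_apply, Pi.add_apply, Matrix.add_apply]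
  ring

/-- The diagonal root elements of the Siegel radical are transvections. -/
theorem ysym_single {F : Type u} [Field F] (m : ℕ) (k : Fin (m + 1)) (c : F) :
    (Matrix.fromBlocks 1 (symOf (m + 1) (Pi.single (k, k) c)) 0 1 :
      Matrix (Fin (m + 1) ⊕ Fin (m + 1)) (Fin (m + 1) ⊕ Fin (m + 1)) F) =
      Cfsg.sympTransvection (m + 1) (Sum.elim (Pi.single k 1) 0) (2 * c) := by
  classical
  rw [Cfsg.Agent.H45.sympTransvection_blocks]
  congr 1
  · ext i j
    simp [vecMulVec_apply]
  · ext i j
    simp only [symOf, Matrix.of_apply, Matrix.smul_apply, vecMulVec_apply, Pi.single_apply,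
      Prod.mk.injEq, smul_eq_mul]
    by_cases hi : i = k <;> by_cases hj : j = k <;> simp [hi, hj] <;> ring
  · ext i j
    simp [vecMulVec_apply]
  · ext i j
    simp [vecMulVec_apply]

/-- **SPO-Y**. -/
theorem yS : StY.{u} := by
  intro F _ m
  classical
  refine ⟨?_, ?_, ?_⟩
  · intro a b
    apply Subtype.ext
    show Matrix.fromBlocks 1 (symOf (m + 1) (a + b)) 0 1 =
      Matrix.fromBlocks 1 (symOf (m + 1) a) 0 1 * Matrix.fromBlocks 1 (symOf (m + 1) b) 0 1
    rw [Matrix.fromBlocks_multiply, symOf_add]
    congr 1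
    · simp
    · simp [add_comm]
    · simp
    · simp
  · intro c
    apply Subtype.ext
    show Matrix.fromBlocks 1 (symOf (m + 1) (Pi.single (0, 0) c)) 0 1 =
      Cfsg.sympTransvection (m + 1) (e0 F m) (2 * c)
    have he : e0 F m = Sum.elim (Pi.single 0 1) 0 := by
      funext x
      rcases x with x | x <;> simp [e0, Pi.single_apply]
    rw [he, ysym_single]
  · intro i c
    apply Subtype.ext
    show Matrix.fromBlocks 1 (symOf (m + 1) (Pi.single (i.succ, i.succ) c)) 0 1 =
      Cfsg.sympTransvection (m + 1) (embW m (Pi.single (Sum.inl i) 1)) (2 * c)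
    have he : embW m (Pi.single (Sum.inl i) (1 : F)) = Sum.elim (Pi.single i.succ 1) 0 := by
      funext x
      rcases x with x | x
      · refine Fin.cases ?_ (fun j => ?_) x
        · simp [embW, Pi.single_apply, Fin.succ_ne_zero, eq_comm]
        · simp [embW, Pi.single_apply]
      · refine Fin.cases ?_ (fun j => ?_) x
        · simp [embW]
        · simp [embW, Pi.single_apply]
    rw [he, ysym_single]

example : StY.{u} := yS

end Cfsg.Agent.H98.SpO
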