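import Cfsg.Agent.H90.SgDefs

/-!
# SG-OUT (helper98, for helper90's EXIST-GEN / S2949)

`out (hGen : StGen) (hFr : StFr) : StOut`: if `M` is a proper subgroup containing `C = C_X(V)` and
`N_X(J)`, some subgroup `D` of the kind produced by GEN is not inside `M`.  Otherwise
`J(X) ≤ N_X(JC) ⊔ ⨆ D ≤ M` (GEN, FR), and Frattini's argument for a Sylow 2-subgroup of the normal
subgroup `J(X)` containing `J`, together with the weak closure of `J` in `T`, gives `X = M`.
-/

set_option autoImplicit false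
open Cfsg

namespace Cfsg.Agent.H98.Sg

open Cfsg.Agent.H90.Sg

universe u

theorem elemAb_map_conj {X : Type u} [Group X] (g : X) {A : Subgroup X}
    (hA : IsElementaryAbelian 2 A) :
    IsElementaryAbelian 2 (A.map (MulAut.conj g).toMonoidHom) := by
  haveI := hA.1
  refine ⟨inferInstance, ?_⟩
  rintro _ ⟨a, ha, rfl⟩
  rw [← map_pow, hA.2 a ha, map_one]

theorem maxElAb_map_conj {X : Type u} [Group X] (g : X) {A : Subgroup X}
    (hA : A ∈ maxElementaryAbelianSubgroups 2 X) :
    A.map (MulAut.conj g).toMonoidHom ∈ maxElementaryAbelianSubgroups 2 X := by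
  refine ⟨elemAb_map_conj g hA.1, ?_⟩
  intro B hB
  have h1 := hA.2 (B.map (MulAut.conj g⁻¹).toMonoidHom) (elemAb_map_conj g⁻¹ hB)
  rw [Subgroup.card_map_of_injective (MulAut.conj g⁻¹).injective] at h1
  rw [Subgroup.card_map_of_injective (MulAut.conj g).injective]
  exact h1

theorem thompson_normal (X : Type u) [Group X] : (thompsonSubgroup 2 X).Normal := by
  constructor
  intro n hn g
  have h1 : (thompsonSubgroup 2 X).map (MulAut.conj g).toMonoidHom ≤ thompsonSubgroup 2 X := by
    unfold Cfsg.thompsonSubgroup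
    rw [Subgroup.map_le_iff_le_comap]
    apply sSup_le
    intro A hA
    rw [← Subgroup.map_le_iff_le_comap]
    exact le_sSup (maxElAb_map_conj g hA)
  exact h1 ⟨n, hn, rfl⟩

/-- Weak closure + a 2-subgroup `P' ⊇ J` inside a conjugate of `T`: `N(P') ≤ N(J)`. -/
theorem normalizer_le_of_weakly_closed {X : Type u} [Group X] (T J P' : Subgroup X)
    (hwc : ∀ g : X, J.map (MulAut.conj g).toMonoidHom ≤ T →
      J.map (MulAut.conj g).toMonoidHom = J)
    (hJP : J ≤ P') (g : X) (hg : ∀ x ∈ P', g⁻¹ * x * g ∈ T) :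
    Subgroup.normalizer (P' : Set X) ≤ Subgroup.normalizer (J : Set X) := by
  intro n hn
  have ha : J.map (MulAut.conj g⁻¹).toMonoidHom = J := by
    apply hwc
    rintro _ ⟨j, hj, rfl⟩
    have := hg j (hJP hj)
    simpa [MulAut.conj_apply] using this
  have hb : J.map (MulAut.conj (g⁻¹ * n)).toMonoidHom = J := by
    apply hwc
    rintro _ ⟨j, hj, rfl⟩
    have h1 : n * j * n⁻¹ ∈ P' := (Subgroup.mem_normalizer_iff.mp hn j).mp (hJP hj)
    have := hg _ h1
    simpa [MulAut.conj_apply, mul_assoc] using this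
  have hc : J.map (MulAut.conj n).toMonoidHom = J := by
    have h2 : (J.map (MulAut.conj n).toMonoidHom).map (MulAut.conj g⁻¹).toMonoidHom =
        J.map (MulAut.conj g⁻¹).toMonoidHom := by
      rw [ha, Subgroup.map_map, ← hb]
      congr 1
      ext x
      simp [MulAut.conj_apply, mul_assoc]
    exact Subgroup.map_injective (MulAut.conj g⁻¹).injective h2
  exact Subgroup.mem_normalizer_iff_map_conj_eq.mpr hc

theorem out (hGen : StGen.{u}) (hFr : StFr.{u}) : StOut.{u} := by
  intro X _ _ V _ T J M hV hsolv hcore hT hTodd hJT hJJ hwc hCM hNM hM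
  by_contra hcon
  push_neg at hcon
  haveI hCn : (Subgroup.centralizer (V : Set X)).Normal := Subgroup.normal_centralizer
  have hJp : IsPGroup 2 ↥J := hT.to_le hJT
  have h1 := hGen V hV hsolv hcore J hJJ hJp
  have h2 := hFr T (Subgroup.centralizer (V : Set X)) J hT hTodd hCn hJT hwc
  have hJX : thompsonSubgroup 2 X ≤ M := by
    refine h1.trans (sup_le (h2.trans (sup_le hCM hNM)) (iSup_le ?_))
    rintro ⟨D, hD1, hD2, hD3, hD4, hD5⟩
    exact hcon D hD1 hD2 hD3 hD4 hD5
  haveI hN := thompson_normal X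
  haveI : Fact (Nat.Prime 2) := ⟨Nat.prime_two⟩
  have hJN : IsPGroup 2 ↥(J.subgroupOf (thompsonSubgroup 2 X)) :=
    hJp.comap_of_injective _ (Subgroup.subtype_injective _)
  obtain ⟨P, hP⟩ := hJN.exists_le_sylow
  have hfr := Sylow.normalizer_sup_eq_top P
  have hJP' : J ≤ (P : Subgroup ↥(thompsonSubgroup 2 X)).map (thompsonSubgroup 2 X).subtype := by
    intro j hj
    exact ⟨⟨j, hJJ hj⟩, hP (Subgroup.mem_subgroupOf.mpr hj), rfl⟩
  have hP'p : IsPGroup 2
      ↥((P : Subgroup ↥(thompsonSubgroup 2 X)).map (thompsonSubgroup 2 X).subtype) :=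
    P.2.map _
  -- `T` is a Sylow 2-subgroup of `X`
  have hT2 : ¬ 2 ∣ T.index := fun h => (Nat.not_even_iff_odd.mpr hTodd) (even_iff_two_dvd.mpr h)
  obtain ⟨Q, hQ⟩ := hP'p.exists_le_sylow
  obtain ⟨g, hg⟩ := MulAction.exists_smul_eq X (hT.toSylow hT2) Q
  have hgT : ∀ x ∈ (P : Subgroup ↥(thompsonSubgroup 2 X)).map (thompsonSubgroup 2 X).subtype,
      g⁻¹ * x * g ∈ T := by
    intro x hx
    have h3 : x ∈ (Q : Subgroup X) := hQ hx
    rw [← hg, Sylow.coe_subgroup_smul, Subgroup.mem_pointwise_smul_iff_inv_smul_mem] at h3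
    simpa [MulAut.smul_def, MulAut.conj_apply] using h3
  have hnorm := normalizer_le_of_weakly_closed T J _ hwc hJP' g hgT
  have htop : (⊤ : Subgroup X) ≤ M := by
    rw [← hfr]
    exact sup_le (hnorm.trans hNM) hJX
  exact hM (top_le_iff.mp htop)

example (hGen : StGen.{u}) (hFr : StFr.{u}) : StOut.{u} := out hGen hFr

end Cfsg.Agent.H98.Sg

#print axioms Cfsg.Agent.H98.Sg.out
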