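import Mathlib
import Cfsg.Agent.H97.SuRDefs
import Cfsg.Agent.H17.WittHerm

set_option autoImplicit false

/-!
Piece S2282-ZGEN of the team project S2282 (helper97): skew-Hermitian matrices are generated,
as an additive group, by the matrices `c' c* - c c'*`.
-/

namespace Cfsg.Agent.H98.SuR

open Matrix Cfsg.Agent.H45.U Cfsg.Agent.H97.SuR

variable {F : Type*} [Field F]

/-- Skew elements are of the form `a - σ a`. -/
theorem exists_sub_eq (σ : F →+* F) (hσ : ∀ a, σ (σ a) = a) (hσ1 : σ ≠ RingHom.id F)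
    (b : F) (hb : σ b = -b) : ∃ a : F, a - σ a = b := by
  obtain ⟨θ, hθ⟩ : ∃ θ : F, σ θ ≠ θ := by
    by_contra hcon
    push Not at hcon
    exact hσ1 (RingHom.ext hcon)
  have hε0 : θ - σ θ ≠ 0 := by
    intro h
    exact hθ (sub_eq_zero.mp h).symm
  have hε : σ (θ - σ θ) = -(θ - σ θ) := by
    rw [map_sub, hσ]
    ring
  have hfix : σ (b / (θ - σ θ)) = b / (θ - σ θ) := by
    rw [map_div₀, hb, hε, neg_div_neg_eq]
  obtain ⟨τ, hτ⟩ := Cfsg.Agent.H17.exists_trace_eq σ hσ1 hσ (b / (θ - σ θ)) hfix
  refine ⟨(θ - σ θ) * τ, ?_⟩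
  rw [map_mul, hε]
  have h1 : (θ - σ θ) * τ - -(θ - σ θ) * σ τ = (θ - σ θ) * (τ + σ τ) := by ring
  rw [h1, hτ, mul_div_cancel₀ _ hε0]

theorem single_sub_ct (σ : F →+* F) {k : ℕ} (i j : Fin k) (x : F) :
    Matrix.single i j x - ct σ (Matrix.single i j x) =
      (Matrix.of fun (p : Fin k) (_ : Fin 1) => if p = i then x else 0) *
          ct σ (Matrix.of fun (p : Fin k) (_ : Fin 1) => if p = j then (1 : F) else 0) -
        (Matrix.of fun (p : Fin k) (_ : Fin 1) => if p = j then (1 : F) else 0) *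
          ct σ (Matrix.of fun (p : Fin k) (_ : Fin 1) => if p = i then x else 0) := by
  ext p q
  simp only [Matrix.sub_apply, Matrix.mul_apply, ct_apply, Matrix.of_apply, Fin.sum_univ_one,
    Matrix.single_apply]
  have e1 : (if i = p ∧ j = q then x else 0) =
      (if p = i then x else 0) * σ (if q = j then (1 : F) else 0) := by
    by_cases h1 : p = i <;> by_cases h2 : q = j
    · subst h1; subst h2; simp
    · subst h1
      have : ¬ j = q := fun h => h2 h.symm
      simp [h2, this]
    · have : ¬ i = p := fun h => h1 h.symm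
      simp [h1, this]
    · have : ¬ i = p := fun h => h1 h.symm
      simp [h1, this]
  have e2 : σ (if i = q ∧ j = p then x else 0) =
      (if p = j then (1 : F) else 0) * σ (if q = i then x else 0) := by
    by_cases h1 : p = j <;> by_cases h2 : q = i
    · subst h1; subst h2; simp
    · subst h1
      have : ¬ i = q := fun h => h2 h.symm
      simp [h2, this]
    · have : ¬ j = p := fun h => h1 h.symm
      simp [h1, this]
    · have : ¬ j = p := fun h => h1 h.symm
      simp [h1, this]
  rw [e1, e2]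

theorem zgen_aux (σ : F →+* F) {k : ℕ}
    (K : AddSubgroup (Matrix (Fin k) (Fin k) F))
    (hK : ∀ c c' : Matrix (Fin k) (Fin 1) F, c' * ct σ c - c * ct σ c' ∈ K)
    (U : Matrix (Fin k) (Fin k) F) : U - ct σ U ∈ K := by
  induction U using Matrix.induction_on' with
  | h_zero =>
    rw [ct_zero, sub_zero]
    exact K.zero_mem
  | h_add p q hp hq =>
    have h : p + q - ct σ (p + q) = (p - ct σ p) + (q - ct σ q) := by
      rw [ct_add]
      abel
    rw [h]
    exact K.add_mem hp hq
  | h_std_basis i j x =>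
    rw [single_sub_ct]
    exact hK _ _

theorem zgen (σ : F →+* F) (hσ : ∀ a, σ (σ a) = a) (hσ1 : σ ≠ RingHom.id F) {k : ℕ}
    (K : AddSubgroup (Matrix (Fin k) (Fin k) F))
    (hK : ∀ c c' : Matrix (Fin k) (Fin 1) F, c' * ct σ c - c * ct σ c' ∈ K) :
    ∀ S : Matrix (Fin k) (Fin k) F, S + ct σ S = 0 → S ∈ K := by
  intro S hS
  have hent : ∀ p q : Fin k, S p q + σ (S q p) = 0 := by
    intro p q
    have h := congrFun (congrFun hS p) q
    simpa [Matrix.add_apply, ct_apply] using h
  have hdiag : ∀ i : Fin k, ∃ a : F, a - σ a = S i i := by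
    intro i
    apply exists_sub_eq σ hσ hσ1
    exact eq_neg_of_add_eq_zero_right (hent i i)
  choose a ha using hdiag
  have hSU : S = (Matrix.of fun (i j : Fin k) => if i < j then S i j else if i = j then a i else 0) -
      ct σ (Matrix.of fun (i j : Fin k) => if i < j then S i j else if i = j then a i else 0) := by
    ext p q
    simp only [Matrix.sub_apply, ct_apply, Matrix.of_apply]
    rcases lt_trichotomy p q with h | h | h
    · have h1 : ¬ q < p := not_lt.mpr h.le
      have h2 : q ≠ p := (ne_of_lt h).symm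
      simp [h, h1, h2]
    · subst h
      simp [ha]
    · have h1 : ¬ p < q := not_lt.mpr h.le
      have h2 : p ≠ q := (ne_of_lt h).symm
      simp only [h, h1, h2, if_true, if_false]
      have h3 := hent p q
      rw [zero_sub]
      exact eq_neg_of_add_eq_zero_left h3
  rw [hSU]
  exact zgen_aux σ K hK _

example (σ : F →+* F) (hσ : ∀ a, σ (σ a) = a) (hσ1 : σ ≠ RingHom.id F) {k : ℕ}
    (K : AddSubgroup (Matrix (Fin k) (Fin k) F))
    (hK : ∀ c c' : Matrix (Fin k) (Fin 1) F, c' * ct σ c - c * ct σ c' ∈ K) :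
    ∀ S : Matrix (Fin k) (Fin k) F, S + ct σ S = 0 → S ∈ K := zgen σ hσ hσ1 K hK

end Cfsg.Agent.H98.SuR
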