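import Mathlib
import Cfsg.Agent.H97.SuRDefs
import Cfsg.Agent.H98.SuRZGEN

set_option autoImplicit false

/-!
Piece S2282-QU2 of the team project S2282 (helper97): the centre of the upper unipotent radical
lies in `H` as soon as every `c` occurs.
-/

namespace Cfsg.Agent.H98.SuR

open Matrix Cfsg.Agent.H45.U Cfsg.Agent.H97.SuR

variable {F : Type*} [Field F]

/-- Generic form, for a family `E c S` multiplying like `eU` / `eL`. -/
theorem center_gen (σ : F →+* F) (hσ : ∀ a, σ (σ a) = a) (hσ1 : σ ≠ RingHom.id F) {k : ℕ}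
    (H : Subgroup ↥(UH σ (Fin k) (Fin 1)))
    (E : Matrix (Fin k) (Fin 1) F → Matrix (Fin k) (Fin k) F →
      Matrix (Fin k ⊕ (Fin k ⊕ Fin 1)) (Fin k ⊕ (Fin k ⊕ Fin 1)) F)
    (hE : ∀ (c c' : Matrix (Fin k) (Fin 1) F) (S S' : Matrix (Fin k) (Fin k) F),
      E c S * E c' S' = E (c + c') (S + S' - c * ct σ c'))
    (hE0 : E 0 0 = 1)
    (hc : ∀ c : Matrix (Fin k) (Fin 1) F, ∃ S : Matrix (Fin k) (Fin k) F,
      ∃ x ∈ H, x.1.1 = E c S) :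
    ∀ S : Matrix (Fin k) (Fin k) F, S + ct σ S = 0 → ∃ x ∈ H, x.1.1 = E 0 S := by
  have hmul0 : ∀ S S' : Matrix (Fin k) (Fin k) F, E 0 S * E 0 S' = E 0 (S + S') := by
    intro S S'
    rw [hE, add_zero, Matrix.zero_mul, sub_zero]
  let K : AddSubgroup (Matrix (Fin k) (Fin k) F) :=
    { carrier := {S | ∃ x ∈ H, x.1.1 = E 0 S}
      zero_mem' := ⟨1, H.one_mem, by rw [UH_one_coe, hE0]⟩
      add_mem' := by
        rintro S S' ⟨x, hx, hx1⟩ ⟨y, hy, hy1⟩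
        exact ⟨x * y, H.mul_mem hx hy, by rw [UH_mul_coe, hx1, hy1, hmul0]⟩
      neg_mem' := by
        rintro S ⟨x, hx, hx1⟩
        refine ⟨x⁻¹, H.inv_mem hx, ?_⟩
        have h1 : (x⁻¹).1.1 * x.1.1 = 1 := by
          rw [← UH_mul_coe, inv_mul_cancel, UH_one_coe]
        have h2 : x.1.1 * E 0 (-S) = 1 := by
          rw [hx1, hmul0, add_neg_cancel, hE0]
        calc (x⁻¹).1.1 = (x⁻¹).1.1 * (x.1.1 * E 0 (-S)) := by rw [h2, Matrix.mul_one]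
          _ = E 0 (-S) := by rw [← Matrix.mul_assoc, h1, Matrix.one_mul] }
  have hK : ∀ c c' : Matrix (Fin k) (Fin 1) F, c' * ct σ c - c * ct σ c' ∈ K := by
    intro c c'
    obtain ⟨S, x, hx, hx1⟩ := hc c
    obtain ⟨S', y, hy, hy1⟩ := hc c'
    refine ⟨x * y * (y * x)⁻¹, H.mul_mem (H.mul_mem hx hy) (H.inv_mem (H.mul_mem hy hx)), ?_⟩
    have h1 : (x * y).1.1 = E 0 (c' * ct σ c - c * ct σ c') * (y * x).1.1 := by
      rw [UH_mul_coe, UH_mul_coe, hx1, hy1, hE, hE, hE]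
      congr 1
      · rw [zero_add, add_comm]
      · rw [Matrix.zero_mul, sub_zero]
        abel
    have h2 : (y * x).1.1 * ((y * x)⁻¹).1.1 = 1 := by
      rw [← UH_mul_coe, mul_inv_cancel, UH_one_coe]
    rw [UH_mul_coe, h1, Matrix.mul_assoc, h2, Matrix.mul_one]
  intro S hS
  exact zgen σ hσ hσ1 K hK S hS

theorem upper_center (σ : F →+* F) (hσ : ∀ a, σ (σ a) = a) (hσ1 : σ ≠ RingHom.id F) {k : ℕ}
    (H : Subgroup ↥(UH σ (Fin k) (Fin 1)))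
    (hc : ∀ c : Matrix (Fin k) (Fin 1) F, ∃ S : Matrix (Fin k) (Fin k) F,
      ∃ x ∈ H, x.1.1 = eU σ c S) :
    ∀ S : Matrix (Fin k) (Fin k) F, S + ct σ S = 0 → ∃ x ∈ H, x.1.1 = eU σ 0 S :=
  center_gen σ hσ hσ1 H (eU σ) (fun c c' S S' => eU_mul σ c c' S S') (eU_zero σ) hc

example (σ : F →+* F) (hσ : ∀ a, σ (σ a) = a) (hσ1 : σ ≠ RingHom.id F) {k : ℕ}
    (H : Subgroup ↥(UH σ (Fin k) (Fin 1)))
    (hc : ∀ c : Matrix (Fin k) (Fin 1) F, ∃ S : Matrix (Fin k) (Fin k) F,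
      ∃ x ∈ H, x.1.1 = eU σ c S) :
    ∀ S : Matrix (Fin k) (Fin k) F, S + ct σ S = 0 → ∃ x ∈ H, x.1.1 = eU σ 0 S :=
  upper_center σ hσ hσ1 H hc

end Cfsg.Agent.H98.SuR
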