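import Mathlib
import Cfsg.Agent.H97.SuRDefs
import Cfsg.Agent.H98.SuRQU2

set_option autoImplicit false

/-!
Piece S2282-QL2 of the team project S2282 (helper97): the centre of the lower unipotent radical
lies in `H` as soon as every `c` occurs.
-/

namespace Cfsg.Agent.H98.SuR

open Matrix Cfsg.Agent.H45.U Cfsg.Agent.H97.SuR

variable {F : Type*} [Field F]

theorem eL_mul' (σ : F →+* F) {k : ℕ} (c c' : Matrix (Fin k) (Fin 1) F)
    (S S' : Matrix (Fin k) (Fin k) F) :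
    eL σ c S * eL σ c' S' = eL σ (c + c') (S + S' - c * ct σ c') := by
  unfold eL
  rw [blk3_mul]
  congr 1 <;> simp [ct_add] <;> abel

theorem lower_center (σ : F →+* F) (hσ : ∀ a, σ (σ a) = a) (hσ1 : σ ≠ RingHom.id F) {k : ℕ}
    (H : Subgroup ↥(UH σ (Fin k) (Fin 1)))
    (hc : ∀ c : Matrix (Fin k) (Fin 1) F, ∃ S : Matrix (Fin k) (Fin k) F,
      ∃ x ∈ H, x.1.1 = eL σ c S) :
    ∀ S : Matrix (Fin k) (Fin k) F, S + ct σ S = 0 → ∃ x ∈ H, x.1.1 = eL σ 0 S :=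
  center_gen σ hσ hσ1 H (eL σ) (fun c c' S S' => eL_mul' σ c c' S S') (eL_zero σ) hc

example (σ : F →+* F) (hσ : ∀ a, σ (σ a) = a) (hσ1 : σ ≠ RingHom.id F) {k : ℕ}
    (H : Subgroup ↥(UH σ (Fin k) (Fin 1)))
    (hc : ∀ c : Matrix (Fin k) (Fin 1) F, ∃ S : Matrix (Fin k) (Fin k) F,
      ∃ x ∈ H, x.1.1 = eL σ c S) :
    ∀ S : Matrix (Fin k) (Fin k) F, S + ct σ S = 0 → ∃ x ∈ H, x.1.1 = eL σ 0 S :=
  lower_center σ hσ hσ1 H hc

end Cfsg.Agent.H98.SuR
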