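import Mathlib

/-!
# Class numbers of symmetric and alternating groups (helper98)

* `T n` : cycle types of permutations of `n` points (multisets of parts `≥ 2` with sum `≤ n`).
* `T_fin` : `T n` is finite of cardinality at most `fib (n + 1)`.
* `card_conjClasses_perm` : `k(S_n) = #T n`.
* `card_alt_lt` : `k(A_n) < k(S_n)` for `n ≥ 5`.
* `card_perm_le` : `k(S_n) ≤ 2 ^ (n - 2)` for `n ≥ 5`.
-/

set_option autoImplicit false

namespace Cfsg.Agent.H98.AltClasses

open Equiv

/-- Cycle types of permutations of `n` points. -/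
abbrev T (n : ℕ) : Type := {s : Multiset ℕ // (∀ x ∈ s, 2 ≤ x) ∧ s.sum ≤ n}

/-- Some element of a nonempty multiset. -/
noncomputable def pick (s : Multiset ℕ) : ℕ :=
  if h : s = 0 then 0 else Classical.choose (Multiset.exists_mem_of_ne_zero h)

theorem pick_mem {s : Multiset ℕ} (h : s ≠ 0) : pick s ∈ s := by
  unfold pick
  rw [dif_neg h]
  exact Classical.choose_spec (Multiset.exists_mem_of_ne_zero h)

theorem T_eq_zero (n : ℕ) (hn : n ≤ 1) (t : T n) : t.1 = 0 := by
  by_contra h
  have hm := pick_mem h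
  have h1 := t.2.1 _ hm
  have h2 := Multiset.le_sum_of_mem hm
  have h3 := t.2.2
  omega

/-- The injection giving the Fibonacci bound. -/
noncomputable def gT (n : ℕ) (t : T (n + 2)) : T (n + 1) ⊕ T n :=
  if h : t.1.sum ≤ n + 1 then Sum.inl ⟨t.1, t.2.1, h⟩
  else Sum.inr ⟨t.1.erase (pick t.1), fun x hx => t.2.1 x (Multiset.mem_of_mem_erase hx), by
    have h0 : t.1 ≠ 0 := by
      intro h0; rw [h0] at h; simp at h
    have hm := pick_mem h0
    have h1 := t.2.1 _ hm
    have h2 := Multiset.sum_erase hm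
    have h3 := t.2.2
    omega⟩

theorem gT_injective (n : ℕ) : Function.Injective (gT n) := by
  intro t t' h
  unfold gT at h
  by_cases h1 : t.1.sum ≤ n + 1
  · by_cases h2 : t'.1.sum ≤ n + 1
    · rw [dif_pos h1, dif_pos h2] at h
      have h' : (⟨t.1, t.2.1, h1⟩ : T (n + 1)) = ⟨t'.1, t'.2.1, h2⟩ := Sum.inl.inj h
      have h'' := congrArg Subtype.val h'
      exact Subtype.ext h''
    · rw [dif_pos h1, dif_neg h2] at h
      exact absurd h (by simp)
  · by_cases h2 : t'.1.sum ≤ n + 1
    · rw [dif_neg h1, dif_pos h2] at h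
      exact absurd h (by simp)
    · rw [dif_neg h1, dif_neg h2] at h
      have e : t.1.erase (pick t.1) = t'.1.erase (pick t'.1) :=
        congrArg Subtype.val (Sum.inr.inj h)
      have h0 : t.1 ≠ 0 := by intro h0; rw [h0] at h1; simp at h1
      have h0' : t'.1 ≠ 0 := by intro h0; rw [h0] at h2; simp at h2
      have hm := pick_mem h0
      have hm' := pick_mem h0'
      have s1 := Multiset.sum_erase hm
      have s2 := Multiset.sum_erase hm'
      have b1 := t.2.2
      have b2 := t'.2.2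
      have hp : pick t.1 = pick t'.1 := by rw [e] at s1; omega
      apply Subtype.ext
      calc t.1 = pick t.1 ::ₘ t.1.erase (pick t.1) := (Multiset.cons_erase hm).symm
        _ = pick t'.1 ::ₘ t'.1.erase (pick t'.1) := by rw [e, hp]
        _ = t'.1 := Multiset.cons_erase hm'

theorem T_fin : ∀ n, Finite (T n) ∧ Nat.card (T n) ≤ Nat.fib (n + 1) := by
  intro n
  induction n using Nat.twoStepInduction with
  | zero =>
    have : Subsingleton (T 0) := ⟨fun a b => Subtype.ext
      ((T_eq_zero 0 (by norm_num) a).trans (T_eq_zero 0 (by norm_num) b).symm)⟩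
    exact ⟨inferInstance, by simpa using Finite.card_le_one_iff_subsingleton.mpr this⟩
  | one =>
    have : Subsingleton (T 1) := ⟨fun a b => Subtype.ext
      ((T_eq_zero 1 le_rfl a).trans (T_eq_zero 1 le_rfl b).symm)⟩
    exact ⟨inferInstance, by simpa using Finite.card_le_one_iff_subsingleton.mpr this⟩
  | more n ih1 ih2 =>
    obtain ⟨f1, c1⟩ := ih1
    obtain ⟨f2, c2⟩ := ih2
    have hf : Finite (T (n + 2)) := Finite.of_injective (gT n) (gT_injective n)
    refine ⟨hf, ?_⟩
    calc Nat.card (T (n + 2)) ≤ Nat.card (T (n + 1) ⊕ T n) :=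
          Nat.card_le_card_of_injective _ (gT_injective n)
      _ = Nat.card (T (n + 1)) + Nat.card (T n) := Nat.card_sum
      _ ≤ Nat.fib (n + 1 + 1) + Nat.fib (n + 1) := Nat.add_le_add c2 c1
      _ = Nat.fib (n + 2 + 1) := by
          rw [add_comm]; exact (Nat.fib_add_two (n := n + 1)).symm

theorem fib_le_two_pow : ∀ m : ℕ, Nat.fib (m + 6) ≤ 2 ^ (m + 3) := by
  intro m
  induction m using Nat.twoStepInduction with
  | zero => decide
  | one => decide
  | more m ih1 ih2 =>
    have h := Nat.fib_add_two (n := m + 6)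
    have e1 : m + 2 + 6 = m + 6 + 2 := by ring
    rw [e1, h]
    have e2 : m + 1 + 6 = m + 6 + 1 := by ring
    rw [e2] at ih2
    have p1 : 2 ^ (m + 1 + 3) = 2 * 2 ^ (m + 3) := by ring
    have p2 : 2 ^ (m + 2 + 3) = 4 * 2 ^ (m + 3) := by ring
    omega

/-- The cycle type as an element of `T n`. -/
def ct (n : ℕ) (σ : Perm (Fin n)) : T n :=
  ⟨σ.cycleType, fun _ hx => Equiv.Perm.two_le_of_mem_cycleType hx,
    by simpa using σ.sum_cycleType_le⟩

theorem card_conjClasses_perm (n : ℕ) :
    Nat.card (ConjClasses (Perm (Fin n))) = Nat.card (T n) := by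
  refine Nat.card_congr (Equiv.ofBijective
    (Quotient.lift (s := IsConj.setoid _) (ct n) (fun a b hab => ?_)) ⟨?_, ?_⟩)
  · have hab' : IsConj a b := hab
    have h2 : a.cycleType = b.cycleType := Equiv.Perm.isConj_iff_cycleType_eq.mp hab'
    apply Subtype.ext
    show a.cycleType = b.cycleType
    exact h2
  · intro c₁ c₂ h
    obtain ⟨a, rfl⟩ := ConjClasses.exists_rep c₁
    obtain ⟨b, rfl⟩ := ConjClasses.exists_rep c₂
    have h2 := congrArg Subtype.val h
    have h3 : a.cycleType = b.cycleType := h2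
    exact ConjClasses.mk_eq_mk_iff_isConj.mpr (Equiv.Perm.isConj_iff_cycleType_eq.mpr h3)
  · intro t
    obtain ⟨g, hg⟩ := (Equiv.Perm.exists_with_cycleType_iff (Fin n)).mpr
      ⟨by simpa using t.2.2, t.2.1⟩
    exact ⟨ConjClasses.mk g, Subtype.ext hg⟩

theorem card_perm_le (n : ℕ) (hn : 5 ≤ n) :
    Nat.card (ConjClasses (Perm (Fin n))) ≤ 2 ^ (n - 2) := by
  rw [card_conjClasses_perm]
  obtain ⟨m, rfl⟩ : ∃ m, n = m + 5 := ⟨n - 5, by omega⟩
  calc Nat.card (T (m + 5)) ≤ Nat.fib (m + 5 + 1) := (T_fin _).2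
    _ ≤ 2 ^ (m + 3) := fib_le_two_pow m
    _ = 2 ^ (m + 5 - 2) := by rw [show m + 5 - 2 = m + 3 by omega]

/-- Distinct odd parts and at most one fixed point. -/
def DD (n : ℕ) (s : Multiset ℕ) : Prop :=
  (∀ c ∈ s, Odd c) ∧ n ≤ s.sum + 1 ∧ ∀ i, s.count i ≤ 1

/-- Replace a part `a` by `a - 1`. -/
noncomputable def sh (s : Multiset ℕ) : Multiset ℕ := (pick s - 1) ::ₘ s.erase (pick s)

theorem sh_sum {s : Multiset ℕ} (h0 : s ≠ 0) (hp : 1 ≤ pick s) : (sh s).sum + 1 = s.sum := by
  have := Multiset.sum_erase (pick_mem h0)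
  unfold sh
  rw [Multiset.sum_cons]
  omega

theorem sh_card {s : Multiset ℕ} (h0 : s ≠ 0) : Multiset.card (sh s) = Multiset.card s := by
  have := Multiset.card_erase_add_one (pick_mem h0)
  unfold sh
  rw [Multiset.card_cons]
  exact this

theorem sh_inj {s s' : Multiset ℕ} (h0 : s ≠ 0) (h0' : s' ≠ 0) (ho : ∀ c ∈ s, Odd c)
    (ho' : ∀ c ∈ s', Odd c) (h : sh s = sh s') : s = s' := by
  have hm := pick_mem h0
  have hm' := pick_mem h0'
  have hoa := ho _ hm
  have hoa' := ho' _ hm'
  have h1 : pick s' - 1 ∈ sh s := by rw [h]; exact Multiset.mem_cons.mpr (Or.inl rfl)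
  unfold sh at h1
  rw [Multiset.mem_cons] at h1
  have hp : pick s = pick s' := by
    rcases h1 with h1 | h1
    · obtain ⟨k, hk⟩ := hoa
      obtain ⟨k', hk'⟩ := hoa'
      omega
    · exfalso
      have h2 := ho _ (Multiset.mem_of_mem_erase h1)
      obtain ⟨k, hk⟩ := h2
      obtain ⟨k', hk'⟩ := hoa'
      omega
  unfold sh at h
  rw [← hp] at h
  have h3 := (Multiset.cons_inj_right _).mp h
  calc s = pick s ::ₘ s.erase (pick s) := (Multiset.cons_erase hm).symm
    _ = pick s' ::ₘ s'.erase (pick s') := by rw [h3, hp]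
    _ = s' := Multiset.cons_erase hm'

theorem DD_ne_zero {n : ℕ} (hn : 5 ≤ n) {s : Multiset ℕ} (hD : DD n s) : s ≠ 0 := by
  rintro rfl
  have := hD.2.1
  simp at this
  omega

theorem DD_pick {n : ℕ} {s : Multiset ℕ} (hv : ∀ x ∈ s, 2 ≤ x) (hD : DD n s) (h0 : s ≠ 0) :
    3 ≤ pick s := by
  have h1 := hv _ (pick_mem h0)
  obtain ⟨k, hk⟩ := hD.1 _ (pick_mem h0)
  omega

theorem DD_iff (n : ℕ) (g : Perm (Fin n)) :
    Subgroup.centralizer {g} ≤ alternatingGroup (Fin n) ↔ DD n g.cycleType := by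
  rw [Equiv.Perm.centralizer_le_alternating_iff, Fintype.card_fin]
  exact Iff.rfl

theorem isConj_of_even {n : ℕ} (a b : alternatingGroup (Fin n)) (h : Perm (Fin n))
    (hh : h * (a : Perm (Fin n)) * h⁻¹ = b) (hs : Perm.sign h = 1) : IsConj a b :=
  isConj_iff.mpr ⟨⟨h, Equiv.Perm.mem_alternatingGroup.mpr hs⟩, Subtype.ext hh⟩

theorem conj_of_three {n : ℕ} (a b c : alternatingGroup (Fin n))
    (hab : (a : Perm (Fin n)).cycleType = (b : Perm (Fin n)).cycleType)
    (hac : (a : Perm (Fin n)).cycleType = (c : Perm (Fin n)).cycleType) :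
    IsConj a b ∨ IsConj a c ∨ IsConj b c := by
  obtain ⟨h₁, hh₁⟩ := isConj_iff.mp (Equiv.Perm.isConj_iff_cycleType_eq.mpr hab)
  obtain ⟨h₂, hh₂⟩ := isConj_iff.mp (Equiv.Perm.isConj_iff_cycleType_eq.mpr hac)
  rcases Int.units_eq_one_or (Perm.sign h₁) with s1 | s1
  · exact Or.inl (isConj_of_even a b h₁ hh₁ s1)
  rcases Int.units_eq_one_or (Perm.sign h₂) with s2 | s2
  · exact Or.inr (Or.inl (isConj_of_even a c h₂ hh₂ s2))
  refine Or.inr (Or.inr (isConj_of_even b c (h₂ * h₁⁻¹) ?_ ?_))
  · rw [← hh₁, ← hh₂]; group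
  · rw [map_mul, map_inv, s1, s2]; exact mul_inv_cancel _

theorem conj_of_not_DD {n : ℕ} (a b : alternatingGroup (Fin n))
    (hab : (a : Perm (Fin n)).cycleType = (b : Perm (Fin n)).cycleType)
    (hD : ¬ DD n (a : Perm (Fin n)).cycleType) : IsConj a b := by
  obtain ⟨h, hh⟩ := isConj_iff.mp (Equiv.Perm.isConj_iff_cycleType_eq.mpr hab)
  rcases Int.units_eq_one_or (Perm.sign h) with s1 | s1
  · exact isConj_of_even a b h hh s1
  rw [← DD_iff] at hD
  obtain ⟨c, hc, hcA⟩ := SetLike.not_le_iff_exists.mp hD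
  have hcs : Perm.sign c = -1 := by
    rcases Int.units_eq_one_or (Perm.sign c) with s | s
    · exact absurd (Equiv.Perm.mem_alternatingGroup.mpr s) hcA
    · exact s
  have hcomm : (a : Perm (Fin n)) * c = c * (a : Perm (Fin n)) :=
    (Subgroup.mem_centralizer_iff.mp hc) _ (Set.mem_singleton _)
  refine isConj_of_even a b (h * c) ?_ ?_
  · rw [← hh, mul_inv_rev]
    have e : h * c * ↑a * (c⁻¹ * h⁻¹) = h * (c * ↑a) * c⁻¹ * h⁻¹ := by group
    rw [e, ← hcomm]; group
  · rw [map_mul, s1, hcs]; decide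

/-- The cycle type of a conjugacy class of the alternating group. -/
noncomputable def tau (n : ℕ) : ConjClasses (alternatingGroup (Fin n)) → Multiset ℕ :=
  Quotient.lift (s := IsConj.setoid _)
    (fun g : alternatingGroup (Fin n) => (g : Perm (Fin n)).cycleType)
    (fun _ _ hab => Equiv.Perm.isConj_iff_cycleType_eq.mp
      (MonoidHom.map_isConj (alternatingGroup (Fin n)).subtype hab))

theorem tau_mk (n : ℕ) (g : alternatingGroup (Fin n)) :
    tau n (ConjClasses.mk g) = (g : Perm (Fin n)).cycleType := rfl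

theorem tau_valid (n : ℕ) (c : ConjClasses (alternatingGroup (Fin n))) :
    (∀ x ∈ tau n c, 2 ≤ x) ∧ (tau n c).sum ≤ n ∧
      Even ((tau n c).sum + Multiset.card (tau n c)) := by
  obtain ⟨g, rfl⟩ := ConjClasses.exists_rep c
  rw [tau_mk]
  refine ⟨fun x hx => Equiv.Perm.two_le_of_mem_cycleType hx,
    by simpa using (g : Perm (Fin n)).sum_cycleType_le, ?_⟩
  have hs : Perm.sign (g : Perm (Fin n)) = 1 := Equiv.Perm.mem_alternatingGroup.mp g.2
  rw [Equiv.Perm.sign_of_cycleType] at hs
  exact (neg_one_pow_eq_one_iff_even (by decide)).mp hs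

theorem fiber3 (n : ℕ) (x y z : ConjClasses (alternatingGroup (Fin n)))
    (hxy : tau n x = tau n y) (hxz : tau n x = tau n z) : x = y ∨ x = z ∨ y = z := by
  obtain ⟨a, rfl⟩ := ConjClasses.exists_rep x
  obtain ⟨b, rfl⟩ := ConjClasses.exists_rep y
  obtain ⟨c, rfl⟩ := ConjClasses.exists_rep z
  rcases conj_of_three a b c hxy hxz with h | h | h
  · exact Or.inl (ConjClasses.mk_eq_mk_iff_isConj.mpr h)
  · exact Or.inr (Or.inl (ConjClasses.mk_eq_mk_iff_isConj.mpr h))
  · exact Or.inr (Or.inr (ConjClasses.mk_eq_mk_iff_isConj.mpr h))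

theorem fiber1 (n : ℕ) (x y : ConjClasses (alternatingGroup (Fin n)))
    (hxy : tau n x = tau n y) (hD : ¬ DD n (tau n x)) : x = y := by
  obtain ⟨a, rfl⟩ := ConjClasses.exists_rep x
  obtain ⟨b, rfl⟩ := ConjClasses.exists_rep y
  exact ConjClasses.mk_eq_mk_iff_isConj.mpr (conj_of_not_DD a b hxy hD)

/-- A chosen class with a given cycle type. -/
noncomputable def rep (n : ℕ) (s : Multiset ℕ) : ConjClasses (alternatingGroup (Fin n)) :=
  if h : ∃ c, tau n c = s then Classical.choose h else ConjClasses.mk 1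

theorem tau_rep (n : ℕ) (c : ConjClasses (alternatingGroup (Fin n))) :
    tau n (rep n (tau n c)) = tau n c := by
  unfold rep
  rw [dif_pos ⟨c, rfl⟩]
  exact Classical.choose_spec (⟨c, rfl⟩ : ∃ c', tau n c' = tau n c)

open Classical in
/-- The injection of the classes of `A_n` into cycle types. -/
noncomputable def Psi (n : ℕ) (c : ConjClasses (alternatingGroup (Fin n))) : Multiset ℕ :=
  if DD n (tau n c) ∧ c ≠ rep n (tau n c) then sh (tau n c) else tau n c

theorem Psi_valid (n : ℕ) (hn : 5 ≤ n) (c : ConjClasses (alternatingGroup (Fin n))) :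
    (∀ x ∈ Psi n c, 2 ≤ x) ∧ (Psi n c).sum ≤ n ∧ Psi n c ≠ {2} := by
  obtain ⟨hv, hsum, hev⟩ := tau_valid n c
  unfold Psi
  split_ifs with h
  · obtain ⟨hD, _⟩ := h
    have h0 := DD_ne_zero hn hD
    have h3 := DD_pick hv hD h0
    have hs := sh_sum h0 (by omega)
    have h2 := hD.2.1
    refine ⟨?_, by omega, ?_⟩
    · intro x hx
      unfold sh at hx
      rcases Multiset.mem_cons.mp hx with rfl | hx
      · omega
      · exact hv x (Multiset.mem_of_mem_erase hx)
    · intro heq
      rw [heq, Multiset.sum_singleton] at hs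
      omega
  · refine ⟨hv, hsum, ?_⟩
    intro heq
    rw [heq, Multiset.sum_singleton, Multiset.card_singleton] at hev
    exact absurd hev (by decide)

theorem Psi_injective (n : ℕ) (hn : 5 ≤ n) : Function.Injective (Psi n) := by
  intro c c' h
  obtain ⟨hv, hsum, hev⟩ := tau_valid n c
  obtain ⟨hv', hsum', hev'⟩ := tau_valid n c'
  unfold Psi at h
  by_cases h1 : DD n (tau n c) ∧ c ≠ rep n (tau n c)
  · by_cases h2 : DD n (tau n c') ∧ c' ≠ rep n (tau n c')
    · rw [if_pos h1, if_pos h2] at h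
      have hst : tau n c = tau n c' :=
        sh_inj (DD_ne_zero hn h1.1) (DD_ne_zero hn h2.1) h1.1.1 h2.1.1 h
      have hne' : c' ≠ rep n (tau n c) := by rw [hst]; exact h2.2
      rcases fiber3 n (rep n (tau n c)) c c' (tau_rep n c) ((tau_rep n c).trans hst) with
        e | e | e
      · exact absurd e.symm h1.2
      · exact absurd e.symm hne'
      · exact e
    · rw [if_pos h1, if_neg h2] at h
      exfalso
      have h0 := DD_ne_zero hn h1.1
      have h3 := DD_pick hv h1.1 h0
      have hs := sh_sum h0 (by omega)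
      have hc := sh_card h0
      rw [h] at hs hc
      rw [← hs, ← hc] at hev
      obtain ⟨k, hk⟩ := hev
      obtain ⟨k', hk'⟩ := hev'
      omega
  · by_cases h2 : DD n (tau n c') ∧ c' ≠ rep n (tau n c')
    · rw [if_neg h1, if_pos h2] at h
      exfalso
      have h0 := DD_ne_zero hn h2.1
      have h3 := DD_pick hv' h2.1 h0
      have hs := sh_sum h0 (by omega)
      have hc := sh_card h0
      rw [← h] at hs hc
      rw [← hs, ← hc] at hev'
      obtain ⟨k, hk⟩ := hev
      obtain ⟨k', hk'⟩ := hev'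
      omega
    · rw [if_neg h1, if_neg h2] at h
      by_cases hD : DD n (tau n c)
      · have e1 : c = rep n (tau n c) := by
          by_contra hne; exact h1 ⟨hD, hne⟩
        have e2 : c' = rep n (tau n c') := by
          by_contra hne; exact h2 ⟨h ▸ hD, hne⟩
        calc c = rep n (tau n c) := e1
          _ = rep n (tau n c') := by rw [h]
          _ = c' := e2.symm
      · exact fiber1 n c c' h hD

theorem card_alt_lt (n : ℕ) (hn : 5 ≤ n) :
    Nat.card (ConjClasses (alternatingGroup (Fin n))) <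
      Nat.card (ConjClasses (Perm (Fin n))) := by
  rw [card_conjClasses_perm]
  have hf := (T_fin n).1
  let f : ConjClasses (alternatingGroup (Fin n)) → T n :=
    fun c => ⟨Psi n c, (Psi_valid n hn c).1, (Psi_valid n hn c).2.1⟩
  have hinj : Function.Injective f := fun c c' h => Psi_injective n hn (congrArg Subtype.val h)
  have hmiss : (⟨{2}, by
      intro x hx; rw [Multiset.mem_singleton] at hx; omega, by
      rw [Multiset.sum_singleton]; omega⟩ : T n) ∉ Set.range f := by
    rintro ⟨c, hc⟩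
    exact (Psi_valid n hn c).2.2 (congrArg Subtype.val hc)
  have : Finite (ConjClasses (alternatingGroup (Fin n))) := Finite.of_injective f hinj
  classical
  have i1 : Fintype (ConjClasses (alternatingGroup (Fin n))) := Fintype.ofFinite _
  have i2 : Fintype (T n) := Fintype.ofFinite _
  rw [Nat.card_eq_fintype_card, Nat.card_eq_fintype_card]
  exact Fintype.card_lt_of_injective_of_notMem f hinj hmiss

end Cfsg.Agent.H98.AltClasses
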