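import Mathlib
import Cfsg.Agent.H98.TransvCent
import Cfsg.Agent.H9.M24d

set_option autoImplicit false

/-!
# The centraliser of a `2A`-involution of `M24` (helper98)

`z0` is an involution of `M24` whose fixed points form an octad.  Its centraliser has order at most
`21504` (stabiliser chain); the centraliser `Γ` of a transvection of `SL(5, 2)` acts faithfully on
the sixteen moved points (an affine hyperplane of `𝔽₂⁵`), every generator acting as the
restriction of an element of the centraliser of `z0`; hence the two centralisers are isomorphic.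
-/

namespace Cfsg.Agent.H98.C2A

open Cfsg Cfsg.Agent.H9 Matrix Cfsg.Agent.H98.TransvCent

/-- packed form of the involution `z0` -/
def Pz : ℕ := 0xbaeb444a2f839aab30d3224a708062

/-- the vector of `𝔽₂⁵` (second coordinate `1`) attached to the index of a moved point -/
def vecT16 : ℕ → Fin 5 → ZMod 2
  | 0 => ![0, 1, 0, 0, 0]
  | 1 => ![0, 1, 1, 0, 0]
  | 2 => ![1, 1, 0, 0, 0]
  | 3 => ![1, 1, 1, 0, 0]
  | 4 => ![0, 1, 0, 1, 0]
  | 6 => ![0, 1, 0, 0, 1]
  | 7 => ![1, 1, 0, 1, 0]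
  | 8 => ![1, 1, 1, 1, 1]
  | 9 => ![1, 1, 0, 0, 1]
  | 10 => ![0, 1, 1, 1, 0]
  | 11 => ![1, 1, 1, 0, 1]
  | 12 => ![1, 1, 1, 1, 0]
  | 15 => ![0, 1, 0, 1, 1]
  | 16 => ![1, 1, 0, 1, 1]
  | 19 => ![0, 1, 1, 1, 1]
  | 22 => ![0, 1, 1, 0, 1]
  | _ => ![0, 0, 0, 0, 0]

/-- the indices of the moved points, listed by the coordinates `0, 2, 3, 4` of their vectors -/
def ptL : List ℕ := [0, 2, 1, 3, 4, 7, 10, 12, 6, 9, 22, 11, 15, 16, 19, 8]

/-- packed permutations of `M24` extending the action of the unipotent elements -/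
def qCodes : List ℕ :=
  [0xbdab49ca307b9ac5a928398a418820, 0xbaeb444a2f839aab30d3224a708062, 0x92cb145e907b5cab313339aa408860, 0x958b19de8f835cc5a8c8226a718022,
   0x75a95434af85e4a5b13321a2718820, 0x72e959b4b07de4cb28c83a62408062, 0x6ae259baaf84aecb292821a8708860, 0x6da2543ab07caea5b0d33a68418022,
   0x8adb2452ef816acb28d33a5c418820, 0x8d9b29d2f0796aa5b128219c708062, 0xa59d79c64f854aa5b0c83a5a408860, 0xa2dd7446507d4acb2933219a718022,
   0x2ae4d9d5d07c68ab30c8226e718820, 0x2da4d455cf8468c5a93339ae408062, 0xadaee415b07d22c5a8d32264708860, 0xaaeee995af8522ab312839a4418022,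
   0xb9ab47ca289b9a749170658aa10c01, 0xba6b484a33439a431ecf52cac00443, 0x924b185e889b5c431d6f65aaa00c41, 0x918b17de93435c7492d052eac10403,
   0x71a95834b345e4449d6f55a2c10c01, 0x726957b4a89de47312d062e2a00443, 0x6a6257bab344ae73117055a8c00c41, 0x69a2583aa89cae449ecf62e8a10403,
   0x8a5b2852f3416a7312cf62dca10c01, 0x899b27d2e8996a449d70559cc00443, 0xa19d77c653454a449ed062daa00c41, 0xa25d7846489d4a73116f559ac10403,
   0x2a64d7d5c89c68431ed052eec10c01, 0x29a4d855d3446874916f65aea00443, 0xa9aee815a89d227492cf52e4c00c41, 0xaa6ee795b34522431d7065a4a10403,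
   0xbceb4b4a29339a34060b13ca061d44, 0xba2b45ca264b9a198df6040a251187, 0x920b15de89335c198e1613ea051d84, 0x94cb1b5e864b5c3405eb042a261147,
   0x74e955b4a64de4140e1603e2261d44, 0x72295b34a935e43985eb1422051187, 0x6a225b3aa64cae39860b03e8251d84, 0x6ce255baa934ae140df61428061147,
   0x8a1b25d2e6496a3985f6141c061d44, 0x8cdb2b52e9316a140e0b03dc251187, 0xa4dd7b46464d4a140deb141a051d84, 0xa21d75c649354a39861603da261147,
   0x2a24db55c93468198deb042e261d44, 0x2ce4d5d5c64c6834061613ee051187, 0xaceee595a935223405f60424251d84, 0xaa2eeb15a64d22198e0b13e4061147,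
   0xbbeb434a2bb39a2801091cca13b08a, 0xbc2b44ca365b9a078a660a0a3228ec, 0x940b14de8bb35c0789061cea1230ea, 0x93cb135e965b5c2802690a2a33a88c,
   0x73e954b4b65de40809060ce233b08a, 0x74295334abb5e42782691a221228ec, 0x6c22533ab65cae2781090ce83230ea, 0x6be254baabb4ae080a661a2813a88c,
   0x8c1b24d2f6596a2782661a1c13b08a, 0x8bdb2352ebb16a0809090cdc3228ec, 0xa3dd7346565d4a080a691a1a1230ea, 0xa41d74c64bb54a2781060cda33a88c,
   0x2c24d355cbb468078a690a2e33b08a, 0x2be4d4d5d65c682801061cee1228ec, 0xabeee495abb5222802660a243230ea, 0xac2ee315b65d220789091ce413a88c,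
   0xb86b454a27239a81cc4c800af5a6c6, 0xb8eb464a243b9b30a00a788b0b1969, 0x90cb165e87235d30a04a802afb2566, 0x904b155e843b5c81cc0c78ab059ac9,
   0x70695634a43de531a04a782305a6c6, 0x70e95534a725e480cc0c80a2fb1969, 0x68e2553aa43cae80cc4c78290b2566, 0x6862563aa724af31a00a80a8f59ac9,
   0x88db2652e4396a80cc0a809cf5a6c6, 0x885b2552e7216b31a04c781d0b1969, 0xa05d7546443d4b31a00c809afb2566, 0xa0dd764647254a80cc4a781b059ac9,
   0x28e4d555c7246930a00c78af05a6c6, 0x2864d655c43c6881cc4a802efb1969, 0xa86ee615a7252281cc0a78a50b2566, 0xa8eee515a43d2330a04c8024f59ac9,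
   0xb82b424a2c539b013c67404b34acd6, 0xb8ab43ca2a639af0402498ca83592b, 0x908b13de8c535cf04064406b332d36, 0x900b125e8a635d013c2798ea84d8cb,
   0x702953b4aa65e4f14064986284acd6, 0x70a95234ac55e5003c2740e333592b, 0x68a2523aaa64af003c679868832d36, 0x682253baac54aef1402440e934d8cb,
   0x889b23d2ea616b003c2440dd34acd6, 0x881b2252ec516af14067985c83592b, 0xa01d72464a654af1402740db332d36, 0xa09d73c64c554b003c64985a84d8cb,
   0x28a4d255cc5468f0402798ee84acd6, 0x2824d3d5ca6469013c64406f33592b, 0xa82ee395ac5523013c2498e4832d36, 0xa8aee215aa6522f04067406534d8cb,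
   0xbaab40ca22039ab658e3490a64426f, 0xbb2b41ca20139b652c8131ca99bd10, 0x930b11de82035d652ce1492a69c10f, 0x928b10de80135cb6588331ea943e70,
   0x72a951b4a015e5662ce1312294426f, 0x732950b4a205e4b5588349e269bd10, 0x6b2250baa014aeb558e3312899c10f, 0x6aa251baa204af662c8149e8643e70,
   0x8b1b21d2e0116ab5588149dc64426f, 0x8a9b20d2e2016b662ce3311c99bd10, 0xa29d70c640154b662c8349da69c10f, 0xa31d71c642054ab558e1311a943e70,
   0x2b24d0d5c20469652c8331ee94426f, 0x2aa4d1d5c01468b658e1492e69bd10, 0xaaaee195a20522b6588131e499c10f, 0xab2ee095a01523652ce34924643e70,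
   0xb92b404a230b9a9399825a8b6821f3, 0xb9eb414a211b9a622540b30ab7ce08, 0x91cb115e830b5c6225805aab67a213, 0x910b105e811b5c939942b32ab84de8,
   0x71295134a11de463a580b2a2b821f3, 0x71e95034a30de49219425b2367ce08, 0x69e2503aa11cae921982b2a8b7a213, 0x6922513aa30cae63a5405b29684de8,
   0x89db2152e1196a9219405b1d6821f3, 0x891b2052e3096a63a582b29cb7ce08, 0xa11d7046411d4a63a5425b1b67a213, 0xa1dd7146430d4a921980b29ab84de8,
   0x29e4d055c30c68622542b32eb821f3, 0x2924d155c11c689399805aaf67ce08, 0xa92ee115a30d22939940b324b7a213, 0xa9eee015a11d226225825aa5684de8]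

/-- packed permutations of `M24` extending the action of the block transvections -/
def tCode : Fin 3 → Fin 3 → ℕ
  | 0, 1 => 0x2d9b27d1c89c6a75913061aea18820
  | 0, 2 => 0x71a4d7d4a89de8c4a9703da2418820
  | 1, 0 => 0xa4db7b4650796a34052b399c460940
  | 1, 2 => 0x94dd1b5e89354ac42a0b3bda418820
  | 2, 0 => 0x68695538b07cae81cd2c39a2458ac0
  | 2, 1 => 0x95a2555ea7235c85cd2c81a8f18820
  | _, _ => 0xbdab49ca307b9ac5a928398a418820


/-! ### The involution -/

/-- the involution, as a function -/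
def z0fun (p : GolayPt) : GolayPt := gPt (lk Pz (gIdx p))

theorem z0fun_invol : ∀ p : GolayPt, z0fun (z0fun p) = p := by decide

/-- the involution `z0` -/
def z0 : Equiv.Perm GolayPt := ⟨z0fun, z0fun, z0fun_invol, z0fun_invol⟩

theorem rep_z0 : H9.Rep Pz z0 := by
  unfold H9.Rep
  decide

theorem chk_Pz : chkM24 Pz = true := by decide +kernel

theorem z0_mem : z0 ∈ M24 := mem_M24_of_chk rep_z0 chk_Pz

theorem z0_mul_self : z0 * z0 = 1 := Equiv.ext z0fun_invol

theorem z0_ne_one : z0 ≠ 1 := by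
  intro h
  have h1 := congrArg (fun f : Equiv.Perm GolayPt => f (gPt 0)) h
  revert h1
  decide

/-! ### The order of the centraliser is at most `21504` -/

/-- the centraliser of `z0` in the pointwise stabiliser of the indices of `l` -/
def A (l : List ℕ) : Subgroup (Equiv.Perm GolayPt) := Stab l ⊓ Subgroup.centralizer {z0}

theorem mem_A {l : List ℕ} {g : Equiv.Perm GolayPt} :
    g ∈ A l ↔ g ∈ Stab l ∧ z0 * g = g * z0 := by
  unfold A
  rw [Subgroup.mem_inf, Subgroup.mem_centralizer_iff]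
  constructor
  · rintro ⟨h1, h2⟩
    exact ⟨h1, h2 z0 rfl⟩
  · rintro ⟨h1, h2⟩
    refine ⟨h1, fun h hh => ?_⟩
    rw [Set.mem_singleton_iff] at hh
    rw [hh]
    exact h2

theorem comm_apply {l : List ℕ} {g : Equiv.Perm GolayPt} (hg : g ∈ A l) (p : GolayPt) :
    g (z0 p) = z0 (g p) := by
  have h := congrArg (fun f : Equiv.Perm GolayPt => f p) (mem_A.mp hg).2
  exact h.symm

theorem moved_apply {l : List ℕ} {g : Equiv.Perm GolayPt} (hg : g ∈ A l) {p : GolayPt}
    (hp : z0 p ≠ p) : z0 (g p) ≠ g p := by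
  rw [← comm_apply hg]
  exact fun h => hp (g.injective h)

theorem fix_apply {l : List ℕ} {g : Equiv.Perm GolayPt} (hg : g ∈ A l) {i : ℕ} (hi : i ∈ l) :
    g (gPt i) = gPt i := (mem_A.mp hg).1.2 i hi

theorem fix_apply' {l : List ℕ} {g : Equiv.Perm GolayPt} (hg : g ∈ A l) {i : ℕ} (hi : i ∈ l) :
    g (z0 (gPt i)) = z0 (gPt i) := by
  rw [comm_apply hg, fix_apply hg hi]

theorem card_A_step (l : List ℕ) (b : ℕ) (S : Finset GolayPt)
    (hS : ∀ g ∈ A l, g (gPt b) ∈ S) : Nat.card (A l) ≤ S.card * Nat.card (A (b :: l)) := by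
  have h1 := card_eq_orbit_mul_inf (A l) (gPt b)
  have h2 : A l ⊓ MulAction.stabilizer (Equiv.Perm GolayPt) (gPt b) = A (b :: l) := by
    ext g
    rw [Subgroup.mem_inf, MulAction.mem_stabilizer_iff, mem_A, mem_A]
    constructor
    · rintro ⟨⟨h3, h4⟩, h5⟩
      refine ⟨⟨h3.1, fun i hi => ?_⟩, h4⟩
      rcases List.mem_cons.mp hi with rfl | hi
      · exact h5
      · exact h3.2 i hi
    · rintro ⟨h3, h4⟩
      exact ⟨⟨⟨h3.1, fun i hi => h3.2 i (List.mem_cons_of_mem _ hi)⟩, h4⟩,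
        h3.2 b (List.mem_cons_self ..)⟩
  have h3 : (MulAction.orbit (A l) (gPt b)).ncard ≤ S.card := by
    rw [← Set.ncard_coe_finset S]
    apply Set.ncard_le_ncard _ (Finset.finite_toSet S)
    rintro _ ⟨g, rfl⟩
    exact hS g.1 g.2
  rw [h1, h2]
  exact Nat.mul_le_mul_right _ h3

/-- the elements of the pointwise stabiliser of the standard octad commuting with `z0` -/
def L8 : List ℕ :=
  m24c6.filter (fun P => allB (fun i => Nat.beq (lk P (lk Pz i)) (lk Pz (lk P i))) 24)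

theorem L8_length : L8.length = 8 := by decide +kernel

theorem z0_pts : z0 (gPt 0) = gPt 2 ∧ z0 (gPt 1) = gPt 3 ∧ z0 (gPt 4) = gPt 7 := by decide

theorem card_A3 : Nat.card (A [4, 1, 0]) ≤ 8 := by
  have key : ∀ g : A [4, 1, 0], ∃ P ∈ L8.toFinset, H9.Rep P g.1 := by
    intro g
    obtain ⟨z02, z13, z47⟩ := z0_pts
    have hS : g.1 ∈ Stab [7, 4, 3, 2, 1, 0] := by
      refine ⟨(mem_A.mp g.2).1.1, fun i hi => ?_⟩
      simp only [List.mem_cons, List.not_mem_nil, or_false] at hi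
      rcases hi with rfl | rfl | rfl | rfl | rfl | rfl
      · rw [← z47]; exact fix_apply' g.2 (by simp)
      · exact fix_apply g.2 (by simp)
      · rw [← z13]; exact fix_apply' g.2 (by simp)
      · rw [← z02]; exact fix_apply' g.2 (by simp)
      · exact fix_apply g.2 (by simp)
      · exact fix_apply g.2 (by simp)
    obtain ⟨P, hP, hrep⟩ := Stab6_rep hS
    refine ⟨P, ?_, hrep⟩
    rw [List.mem_toFinset]
    unfold L8
    rw [List.mem_filter]
    refine ⟨hP, ?_⟩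
    rw [allB_iff]
    intro i hi
    have h1 := comm_apply g.2 (gPt i)
    have h2 := congrArg gIdx h1
    rw [hrep, rep_z0, rep_z0, hrep, gIdx_gPt hi] at h2
    rw [h2]
    exact Nat.beq_refl _
  choose f hf1 hf2 using key
  have hinj : Function.Injective (fun g : A [4, 1, 0] => (⟨f g, hf1 g⟩ : L8.toFinset)) := by
    intro g g' h
    have h1 : f g = f g' := congrArg Subtype.val h
    apply Subtype.ext
    have h2 := hf2 g'
    rw [← h1] at h2
    exact rep_unique (hf2 g) h2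
  have h1 := Nat.card_le_card_of_injective _ hinj
  have h2 : Nat.card L8.toFinset ≤ 8 := by
    rw [Nat.card_eq_fintype_card, Fintype.card_coe, ← L8_length]
    exact List.toFinset_card_le L8
  exact h1.trans h2

/-- the moved points -/
def S0 : Finset GolayPt := Finset.univ.filter (fun p => z0 p ≠ p)

/-- the moved points other than the indices `0, 2` -/
def S1 : Finset GolayPt := S0.filter (fun p => p ≠ gPt 0 ∧ p ≠ gPt 2)

/-- the moved points other than the indices `0, 1, 2, 3` -/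
def S2 : Finset GolayPt := S1.filter (fun p => p ≠ gPt 1 ∧ p ≠ gPt 3)

theorem S_cards : S0.card = 16 ∧ S1.card = 14 ∧ S2.card = 12 := by decide

theorem base_moved : z0 (gPt 0) ≠ gPt 0 ∧ z0 (gPt 1) ≠ gPt 1 ∧ z0 (gPt 4) ≠ gPt 4 := by decide

theorem base_ne : gPt 1 ≠ gPt 0 ∧ gPt 1 ≠ gPt 2 ∧ gPt 4 ≠ gPt 0 ∧ gPt 4 ≠ gPt 2 ∧
    gPt 4 ≠ gPt 1 ∧ gPt 4 ≠ gPt 3 := by decide

theorem mem_S0 {l : List ℕ} {g : Equiv.Perm GolayPt} (hg : g ∈ A l) {p : GolayPt}
    (hp : z0 p ≠ p) : g p ∈ S0 := by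
  unfold S0
  rw [Finset.mem_filter]
  exact ⟨Finset.mem_univ _, moved_apply hg hp⟩

theorem mem_S1 {l : List ℕ} {g : Equiv.Perm GolayPt} (hg : g ∈ A l) (h0 : 0 ∈ l) {p : GolayPt}
    (hp : z0 p ≠ p) (hp0 : p ≠ gPt 0) (hp2 : p ≠ gPt 2) : g p ∈ S1 := by
  unfold S1
  rw [Finset.mem_filter]
  refine ⟨mem_S0 hg hp, ?_, ?_⟩
  · intro h
    rw [← fix_apply hg h0] at h
    exact hp0 (g.injective h)
  · intro h
    have h2 := fix_apply' hg h0
    rw [z0_pts.1] at h2
    rw [← h2] at h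
    exact hp2 (g.injective h)

theorem mem_S2 {l : List ℕ} {g : Equiv.Perm GolayPt} (hg : g ∈ A l) (h0 : 0 ∈ l) (h1 : 1 ∈ l)
    {p : GolayPt} (hp : z0 p ≠ p) (hp0 : p ≠ gPt 0) (hp2 : p ≠ gPt 2) (hp1 : p ≠ gPt 1)
    (hp3 : p ≠ gPt 3) : g p ∈ S2 := by
  unfold S2
  rw [Finset.mem_filter]
  refine ⟨mem_S1 hg h0 hp hp0 hp2, ?_, ?_⟩
  · intro h
    rw [← fix_apply hg h1] at h
    exact hp1 (g.injective h)
  · intro h
    have h2 := fix_apply' hg h1
    rw [z0_pts.2.1] at h2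
    rw [← h2] at h
    exact hp3 (g.injective h)

/-- the centraliser of `z0` in `M24` has order at most `21504` -/
theorem card_A_le : Nat.card (A []) ≤ 21504 := by
  obtain ⟨c0, c1, c2⟩ := S_cards
  obtain ⟨m0, m1, m4⟩ := base_moved
  obtain ⟨n10, n12, n40, n42, n41, n43⟩ := base_ne
  have h0 := card_A_step [] 0 S0 (fun g hg => mem_S0 hg m0)
  have h1 := card_A_step [0] 1 S1 (fun g hg => mem_S1 hg (by simp) m1 n10 n12)
  have h2 := card_A_step [1, 0] 4 S2
    (fun g hg => mem_S2 hg (by simp) (by simp) m4 n40 n42 n41 n43)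
  have h3 := card_A3
  rw [c0] at h0
  rw [c1] at h1
  rw [c2] at h2
  calc Nat.card (A []) ≤ 16 * Nat.card (A [0]) := h0
    _ ≤ 16 * (14 * Nat.card (A [1, 0])) := Nat.mul_le_mul_left _ h1
    _ ≤ 16 * (14 * (12 * Nat.card (A [4, 1, 0]))) :=
        Nat.mul_le_mul_left _ (Nat.mul_le_mul_left _ h2)
    _ ≤ 16 * (14 * (12 * 8)) :=
        Nat.mul_le_mul_left _ (Nat.mul_le_mul_left _ (Nat.mul_le_mul_left _ h3))
    _ = 21504 := by norm_num

end Cfsg.Agent.H98.C2A
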