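import Mathlib
import Cfsg.Agent.H98.C2A

set_option autoImplicit false

/-!
# The centraliser of a `2A`-involution of `M24`, second part (helper98)

The centraliser `Gam` of the transvection `s0` of `SL(5, 2)` acts faithfully on the sixteen points
moved by `z0`, every element acting as the restriction of an element of the centraliser of `z0` in
`M24`; comparing orders, the two centralisers are isomorphic.
-/

namespace Cfsg.Agent.H98.C2A

open Cfsg Cfsg.Agent.H9 Matrix Cfsg.Agent.H98.TransvCent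

/-! ### The action of the linear centraliser on the moved points -/

/-- the vector attached to a point -/
def vec16 (p : GolayPt) : Fin 5 → ZMod 2 := vecT16 (gIdx p)

/-- the point attached to a vector -/
def pt16 (y : Fin 5 → ZMod 2) : GolayPt :=
  gPt (ptL.getD ((y 0).val + 2 * (y 2).val + 4 * (y 3).val + 8 * (y 4).val) 0)

/-- explicit product of a matrix and a vector -/
def mv5 (M : Matrix (Fin 5) (Fin 5) (ZMod 2)) (x : Fin 5 → ZMod 2) : Fin 5 → ZMod 2 :=
  ![M 0 0 * x 0 + M 0 1 * x 1 + M 0 2 * x 2 + M 0 3 * x 3 + M 0 4 * x 4,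
    M 1 0 * x 0 + M 1 1 * x 1 + M 1 2 * x 2 + M 1 3 * x 3 + M 1 4 * x 4,
    M 2 0 * x 0 + M 2 1 * x 1 + M 2 2 * x 2 + M 2 3 * x 3 + M 2 4 * x 4,
    M 3 0 * x 0 + M 3 1 * x 1 + M 3 2 * x 2 + M 3 3 * x 3 + M 3 4 * x 4,
    M 4 0 * x 0 + M 4 1 * x 1 + M 4 2 * x 2 + M 4 3 * x 3 + M 4 4 * x 4]

theorem mv5_eq (M : Matrix (Fin 5) (Fin 5) (ZMod 2)) (x : Fin 5 → ZMod 2) :
    mv5 M x = M *ᵥ x := by
  funext i
  fin_cases i <;> simp [mv5, Matrix.mulVec, dotProduct, Fin.sum_univ_five]

/-- the action of a matrix on the points -/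
def act16 (M : Matrix (Fin 5) (Fin 5) (ZMod 2)) (p : GolayPt) : GolayPt :=
  if z0 p ≠ p then pt16 (mv5 M (vec16 p)) else p

theorem vec16_spec : ∀ p : GolayPt, z0 p ≠ p → vec16 p 1 = 1 ∧ pt16 (vec16 p) = p := by decide

theorem pt16_spec : ∀ y0 y2 y3 y4 : ZMod 2,
    z0 (pt16 ![y0, 1, y2, y3, y4]) ≠ pt16 ![y0, 1, y2, y3, y4] ∧
      vec16 (pt16 ![y0, 1, y2, y3, y4]) = ![y0, 1, y2, y3, y4] := by decide

theorem eta5 {y : Fin 5 → ZMod 2} (h : y 1 = 1) : y = ![y 0, 1, y 2, y 3, y 4] := by
  funext i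
  fin_cases i
  · rfl
  · exact h
  · rfl
  · rfl
  · rfl

theorem pt16_moved {y : Fin 5 → ZMod 2} (h : y 1 = 1) : z0 (pt16 y) ≠ pt16 y := by
  rw [eta5 h]
  exact (pt16_spec _ _ _ _).1

theorem vec16_pt16 {y : Fin 5 → ZMod 2} (h : y 1 = 1) : vec16 (pt16 y) = y := by
  have h1 := (pt16_spec (y 0) (y 2) (y 3) (y 4)).2
  rw [← eta5 h] at h1
  exact h1

theorem mv5_one_coord {M : Matrix (Fin 5) (Fin 5) (ZMod 2)}
    (hM : ∀ j : Fin 5, M 1 j = if j = 1 then 1 else 0) (x : Fin 5 → ZMod 2) :
    mv5 M x 1 = x 1 := by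
  show M 1 0 * x 0 + M 1 1 * x 1 + M 1 2 * x 2 + M 1 3 * x 3 + M 1 4 * x 4 = x 1
  rw [hM 0, hM 1, hM 2, hM 3, hM 4]
  simp

theorem act16_fixed (M : Matrix (Fin 5) (Fin 5) (ZMod 2)) {p : GolayPt} (hp : ¬ z0 p ≠ p) :
    act16 M p = p := if_neg hp

theorem act16_one (p : GolayPt) : act16 1 p = p := by
  unfold act16
  split_ifs with hp
  · rw [mv5_eq, Matrix.one_mulVec]
    exact (vec16_spec p hp).2
  · rfl

theorem act16_mul (M : Matrix (Fin 5) (Fin 5) (ZMod 2)) {N : Matrix (Fin 5) (Fin 5) (ZMod 2)}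
    (hN : ∀ j : Fin 5, N 1 j = if j = 1 then 1 else 0) (p : GolayPt) :
    act16 (M * N) p = act16 M (act16 N p) := by
  by_cases hp : z0 p ≠ p
  · have h1 : mv5 N (vec16 p) 1 = 1 := by
      rw [mv5_one_coord hN]
      exact (vec16_spec p hp).1
    have h2 : act16 N p = pt16 (mv5 N (vec16 p)) := if_pos hp
    rw [h2]
    unfold act16
    rw [if_pos hp, if_pos (pt16_moved h1), vec16_pt16 h1, mv5_eq, mv5_eq, mv5_eq,
      Matrix.mulVec_mulVec]
  · rw [act16_fixed _ hp, act16_fixed _ hp, act16_fixed _ hp]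

/-- the linear centraliser -/
abbrev Gam : Subgroup (SpecialLinearGroup (Fin 5) (ZMod 2)) := Subgroup.centralizer {s0}

theorem row_of_mem (M : Gam) : ∀ j : Fin 5, M.1.1 1 j = if j = 1 then 1 else 0 :=
  (entries_of_mem M.2).2

/-- the action of the linear centraliser on the points -/
@[reducible] def gamAction : MulAction Gam GolayPt where
  smul M p := act16 M.1.1 p
  one_smul p := act16_one p
  mul_smul M N p := act16_mul M.1.1 (row_of_mem N) p

/-- the permutation representation of the linear centraliser -/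
def psi16 : Gam →* Equiv.Perm GolayPt := @MulAction.toPermHom Gam GolayPt _ gamAction

theorem psi16_apply (M : Gam) (p : GolayPt) : psi16 M p = act16 M.1.1 p := rfl

theorem psi16_injective : Function.Injective psi16 := by
  rw [injective_iff_map_eq_one]
  intro M hM
  have hrow := row_of_mem M
  have key : ∀ y : Fin 5 → ZMod 2, y 1 = 1 → M.1.1 *ᵥ y = y := by
    intro y hy
    have h1 := congrArg (fun f : Equiv.Perm GolayPt => f (pt16 y)) hM
    have h2 : act16 M.1.1 (pt16 y) = pt16 y := h1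
    unfold act16 at h2
    rw [if_pos (pt16_moved hy), vec16_pt16 hy] at h2
    have h3 : mv5 M.1.1 y 1 = 1 := by
      rw [mv5_one_coord hrow]
      exact hy
    have h4 := congrArg vec16 h2
    rw [vec16_pt16 h3, vec16_pt16 hy, mv5_eq] at h4
    exact h4
  have e1 : (Pi.single 1 1 : Fin 5 → ZMod 2) 1 = 1 := by simp
  have hcol : ∀ j : Fin 5, M.1.1 *ᵥ Pi.single j 1 = Pi.single j 1 := by
    intro j
    by_cases hj : j = 1
    · subst hj
      exact key _ e1
    · have h5 : (Pi.single 1 1 + Pi.single j 1 : Fin 5 → ZMod 2) 1 = 1 := by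
        simp [Ne.symm hj]
      have h6 := key _ h5
      rw [Matrix.mulVec_add, key _ e1] at h6
      exact add_left_cancel h6
  apply Subtype.ext
  apply Subtype.ext
  show M.1.1 = 1
  ext i j
  have h7 := congrFun (hcol j) i
  rw [Matrix.mulVec_single_one] at h7
  rw [Matrix.one_apply]
  simpa [Pi.single_apply] using h7

/-! ### The action of the centraliser of `z0` on the moved points -/

/-- restriction to the moved points -/
def resFun (g : Equiv.Perm GolayPt) (p : GolayPt) : GolayPt := if z0 p ≠ p then g p else p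

/-- the action of the centraliser of `z0` on the moved points -/
@[reducible] def aAction : MulAction (A []) GolayPt where
  smul g p := resFun g.1 p
  one_smul p := by
    show resFun 1 p = p
    unfold resFun
    split_ifs <;> rfl
  mul_smul g h p := by
    show resFun (g.1 * h.1) p = resFun g.1 (resFun h.1 p)
    unfold resFun
    by_cases hp : z0 p ≠ p
    · rw [if_pos hp, if_pos hp, if_pos (moved_apply h.2 hp)]
      rfl
    · rw [if_neg hp, if_neg hp, if_neg hp]

/-- the restriction homomorphism -/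
def res16 : A [] →* Equiv.Perm GolayPt := @MulAction.toPermHom (A []) GolayPt _ aAction

theorem res16_apply (g : A []) (p : GolayPt) : res16 g p = resFun g.1 p := rfl

theorem moved_mask : ∀ p : GolayPt, Nat.testBit 0x499fdf (gIdx p) = true → z0 p ≠ p := by decide

theorem round16 : roundOK 0x499fdf
    [0x4820ab, 0x160ce, 0xb4093, 0x4f8014, 0x5481d0, 0x718046, 0xa800c7] 0xffffff = true := by
  decide +kernel

theorem res16_injective : Function.Injective res16 := by
  rw [injective_iff_map_eq_one]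
  intro g hg
  have h1 : FixesMask g.1 0x499fdf := by
    intro p hp
    have hp' := moved_mask p (mem_fs.mp hp)
    have h2 := congrArg (fun f : Equiv.Perm GolayPt => f p) hg
    have h3 : resFun g.1 p = p := h2
    unfold resFun at h3
    rwa [if_pos hp'] at h3
  have hM : g.1 ∈ M24 := (mem_A.mp g.2).1.1
  have h2 := fixes_of_roundOK round16 hM h1
  exact Subtype.ext (eq_one_of_fixesMask_full h2)

/-! ### Generators -/

/-- the commutation test -/
def commB (P : ℕ) : Bool := allB (fun i => Nat.beq (lk P (lk Pz i)) (lk Pz (lk P i))) 24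

theorem exists_A_of_code {P : ℕ} (h1 : validP P = true) (h2 : chkM24 P = true)
    (h3 : commB P = true) : ∃ g : A [], H9.Rep P g.1 := by
  obtain ⟨g, hg⟩ := exists_rep h1
  have hM : g ∈ M24 := mem_M24_of_chk hg h2
  refine ⟨⟨g, mem_A.mpr ⟨?_, ?_⟩⟩, hg⟩
  · rw [Stab_nil]
    exact hM
  · refine Equiv.ext fun p => gIdx_injective ?_
    show gIdx (z0 (g p)) = gIdx (g (z0 p))
    rw [rep_z0, hg, hg, rep_z0]
    have h4 := (allB_iff _ _).mp h3 (gIdx p) (gIdx_lt p)
    exact (Nat.eq_of_beq_eq_true h4).symm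

theorem mem_range_of_code {M : Gam} {P : ℕ} (h1 : validP P = true) (h2 : chkM24 P = true)
    (h3 : commB P = true)
    (h4 : ∀ p : GolayPt, z0 p ≠ p → gIdx (act16 M.1.1 p) = lk P (gIdx p)) :
    psi16 M ∈ res16.range := by
  obtain ⟨g, hg⟩ := exists_A_of_code h1 h2 h3
  refine ⟨g, Equiv.ext fun p => ?_⟩
  rw [res16_apply, psi16_apply]
  unfold resFun
  by_cases hp : z0 p ≠ p
  · rw [if_pos hp]
    apply gIdx_injective
    rw [hg, h4 p hp]
  · rw [if_neg hp, act16_fixed _ hp]

/-- the index of a unipotent element in the table -/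
def qIdx (a u0 u1 u2 c0 c1 c2 : ZMod 2) : ℕ :=
  a.val + 2 * u0.val + 4 * u1.val + 8 * u2.val + 16 * c0.val + 32 * c1.val + 64 * c2.val

theorem qCodes_ok : qCodes.all (fun P => validP P && chkM24 P && commB P) = true := by
  decide +kernel

theorem qCodes_act : ∀ a u0 u1 u2 c0 c1 c2 : ZMod 2, ∀ p : GolayPt, z0 p ≠ p →
    gIdx (act16 (mkM a ![u0, u1, u2] ![c0, c1, c2] 1) p) =
      lk (qCodes.getD (qIdx a u0 u1 u2 c0 c1 c2) 0) (gIdx p) := by
  decide +kernel

theorem tCode_spec : ∀ i j : Fin 3, i ≠ j →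
    (validP (tCode i j) && chkM24 (tCode i j) && commB (tCode i j)) = true ∧
      ∀ p : GolayPt, z0 p ≠ p →
        gIdx (act16 (mkM 0 0 0 (Matrix.transvection i j 1)) p) = lk (tCode i j) (gIdx p) := by
  decide +kernel

theorem eta3 (u : Fin 3 → ZMod 2) : u = ![u 0, u 1, u 2] := by
  funext i
  fin_cases i <;> rfl

theorem qIdx_lt (a u0 u1 u2 c0 c1 c2 : ZMod 2) : qIdx a u0 u1 u2 c0 c1 c2 < 128 := by
  have h : ∀ x : ZMod 2, x.val < 2 := fun x => ZMod.val_lt x
  have := h a
  have := h u0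
  have := h u1
  have := h u2
  have := h c0
  have := h c1
  have := h c2
  unfold qIdx
  omega

theorem qCodes_length : qCodes.length = 128 := by decide +kernel

theorem qS_range (a : ZMod 2) (u c : Fin 3 → ZMod 2) :
    psi16 ⟨qS a u c, qS_mem a u c⟩ ∈ res16.range := by
  have hlt := qIdx_lt a (u 0) (u 1) (u 2) (c 0) (c 1) (c 2)
  have hmem : qCodes.getD (qIdx a (u 0) (u 1) (u 2) (c 0) (c 1) (c 2)) 0 ∈ qCodes := by
    rw [List.getD_eq_getElem _ _ (by rw [qCodes_length]; exact hlt)]
    exact List.getElem_mem _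
  have h1 := List.all_eq_true.mp qCodes_ok _ hmem
  simp only [Bool.and_eq_true] at h1
  refine mem_range_of_code h1.1.1 h1.1.2 h1.2 ?_
  intro p hp
  have h3 : (qS a u c).1 = mkM a ![u 0, u 1, u 2] ![c 0, c 1, c 2] 1 := by
    rw [qS_val, ← eta3, ← eta3]
  show gIdx (act16 (qS a u c).1 p) = _
  rw [h3]
  exact qCodes_act a (u 0) (u 1) (u 2) (c 0) (c 1) (c 2) p hp

theorem iota_transv_range {i j : Fin 3} (hij : i ≠ j) (c : ZMod 2) :
    psi16 ⟨iota (SpecialLinearGroup.transvection hij c), iota_mem _⟩ ∈ res16.range := by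
  rcases zmod2_cases c with rfl | rfl
  · have h1 : (⟨iota (SpecialLinearGroup.transvection hij 0), iota_mem _⟩ : Gam) = 1 := by
      apply Subtype.ext
      show iota (SpecialLinearGroup.transvection hij 0) = 1
      rw [SpecialLinearGroup.transvection_coeff_zero, map_one]
    rw [h1, map_one]
    exact Subgroup.one_mem _
  · obtain ⟨h1, h2⟩ := tCode_spec i j hij
    simp only [Bool.and_eq_true] at h1
    exact mem_range_of_code h1.1.1 h1.1.2 h1.2 (fun p hp => h2 p hp)

theorem iota_range (B : SpecialLinearGroup (Fin 3) (ZMod 2)) :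
    psi16 ⟨iota B, iota_mem B⟩ ∈ res16.range := by
  let f : SpecialLinearGroup (Fin 3) (ZMod 2) →* Equiv.Perm GolayPt :=
    psi16.comp (iota.codRestrict Gam iota_mem)
  have h : (⊤ : Subgroup (SpecialLinearGroup (Fin 3) (ZMod 2))) ≤ res16.range.comap f := by
    rw [← Cfsg.Agent.H45.elemSubgroup_eq_top, Cfsg.Agent.H45.elemSubgroup, Subgroup.closure_le]
    rintro _ ⟨i, j, hij, c, rfl⟩
    exact iota_transv_range hij c
  exact h (Subgroup.mem_top B)

theorem range_le : psi16.range ≤ res16.range := by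
  rintro _ ⟨M, rfl⟩
  obtain ⟨a, u, c, B, hM⟩ := decomp M.2
  have h : M = (⟨qS 0 0 c, qS_mem _ _ _⟩ : Gam) * ⟨iota B, iota_mem B⟩ *
      ⟨qS a u 0, qS_mem _ _ _⟩ := Subtype.ext hM
  rw [h, map_mul, map_mul]
  exact Subgroup.mul_mem _ (Subgroup.mul_mem _ (qS_range _ _ _) (iota_range B)) (qS_range _ _ _)

theorem range_eq : psi16.range = res16.range := by
  have h1 : Nat.card psi16.range = Nat.card Gam :=
    Nat.card_congr (MonoidHom.ofInjective psi16_injective).toEquiv.symm
  have h2 : Nat.card res16.range = Nat.card (A []) :=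
    Nat.card_congr (MonoidHom.ofInjective res16_injective).toEquiv.symm
  apply Subgroup.eq_of_le_of_card_ge range_le
  rw [h1, h2]
  exact card_A_le.trans card_centralizer_ge

/-- the isomorphism of the two centralisers -/
noncomputable def gamEquivA : Gam ≃* A [] :=
  (MonoidHom.ofInjective psi16_injective).trans
    ((MulEquiv.subgroupCongr range_eq).trans (MonoidHom.ofInjective res16_injective).symm)

/-- the involution as an element of `M24` -/
def zM : M24 := ⟨z0, z0_mem⟩

theorem orderOf_zM : orderOf zM = 2 := by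
  apply orderOf_eq_prime
  · apply Subtype.ext
    show z0 ^ 2 = 1
    rw [pow_two]
    exact z0_mul_self
  · intro h
    exact z0_ne_one (congrArg Subtype.val h)

/-- the centraliser of `zM` in `M24` is the group `A []` -/
def centEquivA : Subgroup.centralizer ({zM} : Set M24) ≃* A [] where
  toFun g := ⟨g.1.1, mem_A.mpr ⟨by rw [Stab_nil]; exact g.1.2, by
    have h := Subgroup.mem_centralizer_iff.mp g.2 zM rfl
    exact congrArg Subtype.val h⟩⟩
  invFun g := ⟨⟨g.1, by
      have h := (mem_A.mp g.2).1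
      rw [Stab_nil] at h
      exact h⟩, by
    rw [Subgroup.mem_centralizer_iff]
    intro h hh
    rw [Set.mem_singleton_iff] at hh
    subst hh
    apply Subtype.ext
    exact (mem_A.mp g.2).2⟩
  left_inv g := rfl
  right_inv g := rfl
  map_mul' g h := rfl

/-- the main statement -/
theorem main (s : Matrix.SpecialLinearGroup (Fin 5) (ZMod 2))
    (hs : (s : Matrix (Fin 5) (Fin 5) (ZMod 2)) = Matrix.transvection 0 1 1) :
    ∃ z : ↥Cfsg.M24, orderOf z = 2 ∧
      Nonempty (↥(Subgroup.centralizer ({z} : Set ↥Cfsg.M24)) ≃*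
        ↥(Subgroup.centralizer ({s} : Set (Matrix.SpecialLinearGroup (Fin 5) (ZMod 2))))) := by
  have hs0 : s = s0 := Subtype.ext hs
  subst hs0
  exact ⟨zM, orderOf_zM, ⟨centEquivA.trans gamEquivA.symm⟩⟩

end Cfsg.Agent.H98.C2A
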