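import Mathlib
import Cfsg.Agent.H98.C2B
import Cfsg.Agent.H92.Extra2
import Cfsg.Agent.H72.Subn
import Cfsg.Agent.H40.SecB
import Cfsg.Agent.S0249

set_option autoImplicit false

/-!
# The structure of the centraliser of a transvection of `SL(5, 2)` (helper98)

`Gam = Q : K` with `Q` the group of the 128 unipotent elements `qG a u c` (extraspecial) and
`K ≅ SL(3, 2)`; `Q` is the largest normal `2`-subgroup of `Gam`.
-/

namespace Cfsg.Agent.H98.C2A

open Cfsg Matrix Cfsg.Agent.H98.TransvCent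

/-- abbreviation for `SL(3, 2)` -/
abbrev SL3 : Type := SpecialLinearGroup (Fin 3) (ZMod 2)

theorem blk_mul_of_eq {M N : Matrix (Fin 5) (Fin 5) (ZMod 2)} (a a' : ZMod 2)
    (u u' c c' : Fin 3 → ZMod 2) (B B' : Matrix (Fin 3) (Fin 3) (ZMod 2))
    (hM : M = mkM a u c B) (hN : N = mkM a' u' c' B') : blk (M * N) = blk M * blk N := by
  subst hM hN
  rw [mkM_mul, blk_mkM, blk_mkM, blk_mkM]

/-- the block homomorphism -/
def blkHom : Gam →* SL3 where
  toFun M := ⟨blk M.1.1, det_blk M.2⟩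
  map_one' := by
    apply Subtype.ext
    show blk (1 : Matrix (Fin 5) (Fin 5) (ZMod 2)) = 1
    rw [← mkM_one, blk_mkM]
  map_mul' M N := by
    apply Subtype.ext
    exact blk_mul_of_eq _ _ _ _ _ _ _ _ (eq_mkM M.2) (eq_mkM N.2)

/-- the block embedding into the centraliser -/
def iotaG : SL3 →* Gam := iota.codRestrict Gam iota_mem

theorem blkHom_iotaG (B : SL3) : blkHom (iotaG B) = B := by
  apply Subtype.ext
  show blk (mkM 0 0 0 B.1) = B.1
  exact blk_mkM _ _ _ _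

theorem iotaG_injective : Function.Injective iotaG :=
  Function.LeftInverse.injective blkHom_iotaG

/-- the unipotent elements as elements of the centraliser -/
def qG (a : ZMod 2) (u c : Fin 3 → ZMod 2) : Gam := ⟨qS a u c, qS_mem a u c⟩

/-- the unipotent radical -/
def QG : Subgroup Gam := blkHom.ker

theorem qG_mem (a : ZMod 2) (u c : Fin 3 → ZMod 2) : qG a u c ∈ QG := by
  rw [QG, MonoidHom.mem_ker]
  apply Subtype.ext
  show blk (mkM a u c 1) = 1
  exact blk_mkM _ _ _ _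

theorem exists_of_mem_QG {M : Gam} (hM : M ∈ QG) :
    ∃ (a : ZMod 2) (u c : Fin 3 → ZMod 2), M = qG a u c := by
  rw [QG, MonoidHom.mem_ker] at hM
  have h1 : blk M.1.1 = 1 := congrArg Subtype.val hM
  have h2 := eq_mkM M.2
  rw [h1] at h2
  exact ⟨M.1.1 0 1, ![M.1.1 0 2, M.1.1 0 3, M.1.1 0 4], ![M.1.1 2 1, M.1.1 3 1, M.1.1 4 1],
    Subtype.ext (Subtype.ext h2)⟩

theorem qG_mul (a a' : ZMod 2) (u u' c c' : Fin 3 → ZMod 2) :
    qG a u c * qG a' u' c' = qG (a + a' + u ⬝ᵥ c') (u' + u) (c + c') := by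
  apply Subtype.ext
  apply Subtype.ext
  show mkM a u c 1 * mkM a' u' c' 1 = mkM (a + a' + u ⬝ᵥ c') (u' + u) (c + c') 1
  rw [mkM_mul, Matrix.vecMul_one, Matrix.one_mulVec, mul_one]

theorem qG_one : qG 0 0 0 = 1 := by
  apply Subtype.ext
  apply Subtype.ext
  exact mkM_one

theorem qG_inj {a a' : ZMod 2} {u u' c c' : Fin 3 → ZMod 2} (h : qG a u c = qG a' u' c') :
    a = a' ∧ u = u' ∧ c = c' := by
  have h1 : mkM a u c 1 = mkM a' u' c' 1 := congrArg (fun M : Gam => M.1.1) h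
  obtain ⟨h2, h3, h4, _⟩ := mkM_inj h1
  exact ⟨h2, h3, h4⟩

theorem zmod2_id1 : ∀ a x : ZMod 2, a + (a + x) + x = 0 := by decide

theorem zmod2_id2 : ∀ a a' x y : ZMod 2, a + a' + x = x + y + (a' + a + y) + 0 := by decide

theorem zmod2_id3 : ∀ a x : ZMod 2, a + a + x = x := by decide

theorem qG_inv (a : ZMod 2) (u c : Fin 3 → ZMod 2) : (qG a u c)⁻¹ = qG (a + u ⬝ᵥ c) u c := by
  rw [inv_eq_iff_mul_eq_one, qG_mul, zmod2_id1, add_self_fun, add_self_fun, qG_one]

theorem qG_mul_comm (a a' : ZMod 2) (u u' c c' : Fin 3 → ZMod 2) :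
    qG a u c * qG a' u' c' = qG (u ⬝ᵥ c' + u' ⬝ᵥ c) 0 0 * (qG a' u' c' * qG a u c) := by
  rw [qG_mul, qG_mul, qG_mul]
  have h1 : a + a' + u ⬝ᵥ c' =
      u ⬝ᵥ c' + u' ⬝ᵥ c + (a' + a + u' ⬝ᵥ c) + (0 : Fin 3 → ZMod 2) ⬝ᵥ (c' + c) := by
    rw [zero_dotProduct]
    exact zmod2_id2 _ _ _ _
  have h2 : u' + u = u + u' + 0 := by rw [add_zero, add_comm]
  have h3 : c + c' = 0 + (c' + c) := by rw [zero_add, add_comm]
  rw [← h1, ← h2, ← h3]

theorem qG_comm (a a' : ZMod 2) (u u' c c' : Fin 3 → ZMod 2) :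
    qG a u c * qG a' u' c' * (qG a u c)⁻¹ * (qG a' u' c')⁻¹ = qG (u ⬝ᵥ c' + u' ⬝ᵥ c) 0 0 := by
  rw [qG_mul_comm]
  group

theorem qG_sq (a : ZMod 2) (u c : Fin 3 → ZMod 2) : qG a u c * qG a u c = qG (u ⬝ᵥ c) 0 0 := by
  rw [qG_mul, zmod2_id3, add_self_fun, add_self_fun]

theorem qG_central {a : ZMod 2} {u c : Fin 3 → ZMod 2}
    (h : ∀ (a' : ZMod 2) (u' c' : Fin 3 → ZMod 2),
      qG a' u' c' * qG a u c = qG a u c * qG a' u' c') : u = 0 ∧ c = 0 := by
  have key : ∀ (u' c' : Fin 3 → ZMod 2), u' ⬝ᵥ c + u ⬝ᵥ c' = 0 := by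
    intro u' c'
    have h1 := qG_mul_comm 0 a u' u c' c
    rw [h 0 u' c'] at h1
    have h2 : qG (u' ⬝ᵥ c + u ⬝ᵥ c') 0 0 = 1 := by
      have h3 := h1.symm
      exact mul_eq_right.mp h3
    rw [← qG_one] at h2
    exact (qG_inj h2).1
  constructor
  · funext i
    have h1 := key 0 (Pi.single i 1)
    simpa using h1
  · funext i
    have h1 := key (Pi.single i 1) 0
    simpa using h1

/-- an element of the centraliser commuting with all unipotent elements is `qG a 0 0` -/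
theorem cent_QG {M : Gam} (h : ∀ (a' : ZMod 2) (u' c' : Fin 3 → ZMod 2),
    qG a' u' c' * M = M * qG a' u' c') : ∃ a : ZMod 2, M = qG a 0 0 := by
  have hM := eq_mkM M.2
  have hB : blk M.1.1 = 1 := by
    have key : ∀ c' : Fin 3 → ZMod 2, blk M.1.1 *ᵥ c' = c' := by
      intro c'
      have h1 : mkM 0 0 c' 1 * M.1.1 = M.1.1 * mkM 0 0 c' 1 :=
        congrArg (fun N : Gam => N.1.1) (h 0 0 c')
      rw [hM, mkM_mul, mkM_mul] at h1
      have h2 := (mkM_inj h1).2.2.1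
      have h3 : ![M.1.1 2 1, M.1.1 3 1, M.1.1 4 1] + blk M.1.1 *ᵥ c' =
          ![M.1.1 2 1, M.1.1 3 1, M.1.1 4 1] + c' := by
        rw [← h2, Matrix.one_mulVec, add_comm]
      exact add_left_cancel h3
    ext i j
    have h7 := congrFun (key (Pi.single j 1)) i
    rw [Matrix.mulVec_single_one] at h7
    rw [Matrix.one_apply]
    simpa [Pi.single_apply] using h7
  have hQ : M ∈ QG := by
    rw [QG, MonoidHom.mem_ker]
    exact Subtype.ext hB
  obtain ⟨a, u, c, rfl⟩ := exists_of_mem_QG hQ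
  obtain ⟨hu, hc⟩ := qG_central h
  exact ⟨a, by rw [hu, hc]⟩

theorem qG_s0 : qG 1 0 0 = ⟨s0, Subgroup.mem_centralizer_iff.mpr (fun h hh => by
    rw [Set.mem_singleton_iff] at hh; rw [hh])⟩ := by
  apply Subtype.ext
  exact s0_eq.symm

theorem qG_one_ne : qG 1 0 0 ≠ 1 := by
  intro h
  rw [← qG_one] at h
  exact one_ne_zero (qG_inj h).1

theorem card_QG : Nat.card QG = 2 ^ 7 := by
  let f : ZMod 2 × (Fin 3 → ZMod 2) × (Fin 3 → ZMod 2) → QG :=
    fun x => ⟨qG x.1 x.2.1 x.2.2, qG_mem _ _ _⟩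
  have hf : Function.Bijective f := by
    constructor
    · rintro ⟨a, u, c⟩ ⟨a', u', c'⟩ h
      obtain ⟨h1, h2, h3⟩ := qG_inj (congrArg Subtype.val h)
      exact Prod.ext h1 (Prod.ext h2 h3)
    · rintro ⟨M, hM⟩
      obtain ⟨a, u, c, rfl⟩ := exists_of_mem_QG hM
      exact ⟨⟨a, u, c⟩, rfl⟩
  rw [← Nat.card_congr (Equiv.ofBijective f hf), Nat.card_eq_fintype_card]
  simp [ZMod.card]

/-! ### The largest normal `2`-subgroup -/

theorem center_SL3 : Subgroup.center SL3 = ⊥ := by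
  rw [eq_bot_iff]
  intro A hA
  rw [Matrix.SpecialLinearGroup.mem_center_iff] at hA
  obtain ⟨r, _, hr⟩ := hA
  rw [Subgroup.mem_bot]
  apply Subtype.ext
  rcases zmod2_cases r with h | h
  · exfalso
    rw [h] at hr
    have hdet : A.1.det = 0 := by
      rw [← hr]
      simp
    rw [A.2] at hdet
    exact one_ne_zero hdet
  · rw [← hr, h]
    simp

theorem sl3_normal_two (N : Subgroup SL3) (hN : N.Normal) (hp : IsPGroup 2 N) : N = ⊥ := by
  have hsimple : IsSimpleGroup (Matrix.ProjectiveSpecialLinearGroup (Fin 3) (ZMod 2)) :=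
    Cfsg.Agent.S0249.result 3 (le_refl 3)
  let π : SL3 →* Matrix.ProjectiveSpecialLinearGroup (Fin 3) (ZMod 2) :=
    QuotientGroup.mk' (Subgroup.center SL3)
  have hπ : Function.Surjective π := QuotientGroup.mk'_surjective _
  have hπinj : Function.Injective π := by
    rw [← MonoidHom.ker_eq_bot_iff, QuotientGroup.ker_mk', center_SL3]
  have hn : (N.map π).Normal := Subgroup.Normal.map hN π hπ
  rcases hn.eq_bot_or_eq_top with h | h
  · rw [eq_bot_iff]
    intro x hx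
    have h1 : π x ∈ N.map π := Subgroup.mem_map_of_mem π hx
    rw [h, Subgroup.mem_bot] at h1
    rw [Subgroup.mem_bot]
    exact hπinj (h1.trans (map_one π).symm)
  · exfalso
    have h1 : N = ⊤ := by
      rw [eq_top_iff]
      intro x _
      have h2 : π x ∈ N.map π := by rw [h]; exact Subgroup.mem_top _
      obtain ⟨y, hy, hxy⟩ := h2
      rw [← hπinj hxy]
      exact hy
    have h3 : IsPGroup 2 SL3 := by
      intro x
      obtain ⟨k, hk⟩ := hp ⟨x, by rw [h1]; exact Subgroup.mem_top _⟩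
      exact ⟨k, congrArg Subtype.val hk⟩
    have : Fact (Nat.Prime 2) := ⟨Nat.prime_two⟩
    obtain ⟨n, hn⟩ := IsPGroup.iff_card.mp h3
    rw [card_SL3] at hn
    have h4 : (7 : ℕ) ∣ 2 ^ n := by rw [← hn]; norm_num
    have h5 := (Nat.Prime.dvd_of_dvd_pow (by norm_num) h4)
    omega

theorem isPGroup_QG : IsPGroup 2 QG := by
  have : Fact (Nat.Prime 2) := ⟨Nat.prime_two⟩
  exact IsPGroup.of_card card_QG

theorem pCore_Gam : pCore 2 Gam = QG := by
  have : Fact (Nat.Prime 2) := ⟨Nat.prime_two⟩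
  apply le_antisymm
  · have hn : (pCore 2 Gam).Normal := Cfsg.Agent.H72.pCore_normal 2 Gam
    have hp : IsPGroup 2 (pCore 2 Gam) := Cfsg.Agent.H92.pCore_isPGroup 2
    have hsurj : Function.Surjective blkHom := fun B => ⟨iotaG B, blkHom_iotaG B⟩
    have h1 := sl3_normal_two ((pCore 2 Gam).map blkHom) (Subgroup.Normal.map hn blkHom hsurj)
      (hp.map blkHom)
    intro x hx
    have h2 : blkHom x ∈ (pCore 2 Gam).map blkHom := Subgroup.mem_map_of_mem blkHom hx
    rw [h1, Subgroup.mem_bot] at h2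
    exact h2
  · apply le_sSup
    exact ⟨MonoidHom.normal_ker blkHom, isPGroup_QG⟩

end Cfsg.Agent.H98.C2A
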