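import Mathlib
import Cfsg.Agent.H86.Ev2Defs

/-!
# S5988 (helper42's team project), the `r = 2` line: statements of the two sub-pieces
EQ-R2a / EQ-R2b used by the assembly `Cfsg.Agent.H98.Eq.r2` (helper98).
-/

set_option autoImplicit false

namespace Cfsg.Agent.H98.Eq

open Cfsg.Agent.H45 Cfsg.Agent.H42.Spd Cfsg.Agent.H42.Ti Cfsg.Agent.H14.Ot Cfsg.Agent.H95.Oh Module

universe u v

/-- EQ-R2a: `T` an isometry with `T * T = -1` of a nondegenerate symmetric bilinear space over a
finite field, `2 ≠ 0`.  If `-1` is a square, every invariant nondegenerate subspace is of plus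
type; if `-1` is a nonsquare, an invariant nondegenerate subspace is of plus type iff its
dimension is divisible by `4`, and there are invariant nondegenerate subspaces of every even
dimension `2 t ≤ dim V`. -/
def StR2a : Prop :=
  ∀ (F : Type u) [Field F] [Fintype F] (V : Type v) [AddCommGroup V] [Module F V]
    [FiniteDimensional F V] (B : V →ₗ[F] V →ₗ[F] F) (T : Module.End F V), (2 : F) ≠ 0 →
    (∀ x y, B x y = B y x) → (∀ x, (∀ y, B x y = 0) → x = 0) →
    (∀ x y, B (T x) (T y) = B x y) → T * T = -1 →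
    (IsSquare (-1 : F) →
      ∀ W : Submodule F V, W ∈ T.invtSubmodule → W ⊓ perp B W = ⊥ → Plus B W) ∧
    (¬ IsSquare (-1 : F) →
      (∀ W : Submodule F V, W ∈ T.invtSubmodule → W ⊓ perp B W = ⊥ →
        (Plus B W ↔ Module.finrank F W % 4 = 0)) ∧
      (∀ t : ℕ, 2 * t ≤ Module.finrank F V →
        ∃ W : Submodule F V, W ∈ T.invtSubmodule ∧ W ⊓ perp B W = ⊥ ∧
          Module.finrank F W = 2 * t))

/-- EQ-R2b: `Ω⁺_{2d}(q)`, `q` odd, contains an element of square `-1` iff `d` is even or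
`q ≡ 1 (mod 8)`. -/
def StR2b : Prop :=
  ∀ (F : Type u) [Field F] [Fintype F] (d : ℕ), (2 : F) ≠ 0 →
    ((∃ x : Matrix.GeneralLinearGroup (Fin d ⊕ Fin d) F,
        x ∈ Cfsg.Geo.omegaGL (Cfsg.quadFormPlus d F) ∧
        (x : Matrix (Fin d ⊕ Fin d) (Fin d ⊕ Fin d) F) *
          (x : Matrix (Fin d ⊕ Fin d) (Fin d ⊕ Fin d) F) = -1) ↔
      (Even d ∨ Fintype.card F % 8 = 1))

end Cfsg.Agent.H98.Eq
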