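import Mathlib
import Cfsg.Agent.H42.EqDefs
import Cfsg.Agent.H98.EqR2Defs
import Cfsg.Agent.H49.Disc

/-!
# EQ-R2 (helper98, for helper42): the `r = 2` line of S5988, assembled from EQ-R2a / EQ-R2b
(`Cfsg.Agent.H98.Eq.StR2a`, `StR2b`), helper86's EV2-BRP and helper95's S5992-INV.
-/

set_option autoImplicit false

namespace Cfsg.Agent.H98.Eq

open Cfsg.Agent.H45 Cfsg.Agent.H42.Spd Cfsg.Agent.H42.Ti Cfsg.Agent.H14.Ot Cfsg.Agent.H95.Oh
  Cfsg.Agent.H86.Ev2 Module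

universe u

/-- **EQ-R2**. -/
theorem r2 (hA : StR2a.{u, u}) (hB : StR2b.{u}) (hBr : StBrP.{u})
    (hInv : Cfsg.Agent.H95.Oh.StInv.{u, u}) : Cfsg.Agent.H42.Eq.StR2.{u} := by
  intro F _ _ d m hodd hd hm hm2 hmd
  classical
  have h2 : (2 : F) ≠ 0 := Cfsg.Agent.H49.two_ne_zero_of_odd_card hodd
  obtain ⟨B, hBpol, hBsymm, hBnd, hBQ, hBN, hBP, hBI⟩ := hBr F d h2
  have hPlus : ∀ W : Submodule F (Fin d ⊕ Fin d → F),
      Cfsg.Geo.IsPlusTypeOn (Cfsg.quadFormPlus d F) W ↔ Plus B W := by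
    intro W
    constructor
    · rintro ⟨U, hUW, hU, hdim⟩
      refine ⟨U, hUW, ?_, hdim⟩
      intro u hu v hv
      rw [hBpol, QuadraticMap.polar, hU u hu, hU v hv, hU (u + v) (U.add_mem hu hv)]
      simp
    · rintro ⟨U, hUW, hU, hdim⟩
      refine ⟨U, hUW, ?_, hdim⟩
      intro w hw
      have h3 := hU w hw w hw
      rw [hBQ] at h3
      exact (mul_eq_zero.mp h3).resolve_left h2
  have hfr : Module.finrank F (Fin d ⊕ Fin d → F) = 2 * d := by
    rw [Module.finrank_fintype_fun_eq_card]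
    simp only [Fintype.card_sum, Fintype.card_fin]
    omega
  have hinvt : ∀ (x : Matrix.GeneralLinearGroup (Fin d ⊕ Fin d) F)
      (W : Submodule F (Fin d ⊕ Fin d → F)),
      W ∈ Module.End.invtSubmodule
          (Matrix.toLin' (x : Matrix (Fin d ⊕ Fin d) (Fin d ⊕ Fin d) F)) ↔
        W.map (Matrix.toLin' (x : Matrix (Fin d ⊕ Fin d) (Fin d ⊕ Fin d) F)) ≤ W := by
    intro x W
    rw [Module.End.mem_invtSubmodule, Submodule.map_le_iff_le_comap]
  have hiso : ∀ x : Matrix.GeneralLinearGroup (Fin d ⊕ Fin d) F,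
      x ∈ Cfsg.Geo.omegaGL (Cfsg.quadFormPlus d F) →
      x ∈ Cfsg.isometryGroup F (Cfsg.quadFormPlus d F) := by
    rintro x ⟨g, -, rfl⟩
    exact g.2
  have hd0 : 0 < d := by omega
  -- a scalar isometry is `± 1`
  have hscal : ∀ (y : Matrix.GeneralLinearGroup (Fin d ⊕ Fin d) F) (z : F),
      y ∈ Cfsg.isometryGroup F (Cfsg.quadFormPlus d F) →
      (y : Matrix (Fin d ⊕ Fin d) (Fin d ⊕ Fin d) F) =
        z • (1 : Matrix (Fin d ⊕ Fin d) (Fin d ⊕ Fin d) F) → z * z = 1 := by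
    intro y z hy hyz
    have hu : (Pi.single (Sum.inl ⟨0, hd0⟩) 1 : Fin d ⊕ Fin d → F) ≠ 0 := by
      intro h
      have h1 := congrFun h (Sum.inl ⟨0, hd0⟩)
      rw [Pi.single_eq_same, Pi.zero_apply] at h1
      exact one_ne_zero h1
    obtain ⟨w, hw⟩ : ∃ w, B (Pi.single (Sum.inl ⟨0, hd0⟩) 1) w ≠ 0 := by
      by_contra hcon
      apply hu
      apply hBnd
      intro w
      by_contra hne
      exact hcon ⟨w, hne⟩
    have h1 := (hBI y).mp hy (Pi.single (Sum.inl ⟨0, hd0⟩) 1) w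
    rw [hyz, Matrix.toLin'_apply, Matrix.toLin'_apply, Matrix.smul_mulVec, Matrix.smul_mulVec,
      Matrix.one_mulVec, Matrix.one_mulVec, map_smul, map_smul, LinearMap.smul_apply,
      smul_eq_mul, smul_eq_mul] at h1
    have h3 : (z * z - 1) * B (Pi.single (Sum.inl ⟨0, hd0⟩) 1) w = 0 := by
      linear_combination h1
    have h4 := (mul_eq_zero.mp h3).resolve_right hw
    linear_combination h4
  -- `T * T` from the matrix square
  have hTT1 : ∀ (x : Matrix.GeneralLinearGroup (Fin d ⊕ Fin d) F),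
      (x : Matrix (Fin d ⊕ Fin d) (Fin d ⊕ Fin d) F) *
        (x : Matrix (Fin d ⊕ Fin d) (Fin d ⊕ Fin d) F) = 1 →
      Matrix.toLin' (x : Matrix (Fin d ⊕ Fin d) (Fin d ⊕ Fin d) F) *
        Matrix.toLin' (x : Matrix (Fin d ⊕ Fin d) (Fin d ⊕ Fin d) F) =
        (1 : Module.End F (Fin d ⊕ Fin d → F)) := by
    intro x hx
    have h3 := congrArg (Matrix.toLinAlgEquiv' (R := F)) hx
    rw [map_mul, map_one] at h3
    exact h3
  have hTTn : ∀ (x : Matrix.GeneralLinearGroup (Fin d ⊕ Fin d) F),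
      (x : Matrix (Fin d ⊕ Fin d) (Fin d ⊕ Fin d) F) *
        (x : Matrix (Fin d ⊕ Fin d) (Fin d ⊕ Fin d) F) = -1 →
      Matrix.toLin' (x : Matrix (Fin d ⊕ Fin d) (Fin d ⊕ Fin d) F) *
        Matrix.toLin' (x : Matrix (Fin d ⊕ Fin d) (Fin d ⊕ Fin d) F) =
        (-1 : Module.End F (Fin d ⊕ Fin d → F)) := by
    intro x hx
    have h3 := congrArg (Matrix.toLinAlgEquiv' (R := F)) hx
    rw [map_mul, map_neg, map_one] at h3
    exact h3
  have hxx2 : ∀ (x : Matrix.GeneralLinearGroup (Fin d ⊕ Fin d) F),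
      (x : Matrix (Fin d ⊕ Fin d) (Fin d ⊕ Fin d) F) *
        (x : Matrix (Fin d ⊕ Fin d) (Fin d ⊕ Fin d) F) = -1 →
      ((x ^ 2 : Matrix.GeneralLinearGroup (Fin d ⊕ Fin d) F) :
        Matrix (Fin d ⊕ Fin d) (Fin d ⊕ Fin d) F) =
        (-1 : F) • (1 : Matrix (Fin d ⊕ Fin d) (Fin d ⊕ Fin d) F) := by
    intro x hx
    rw [pow_two, Units.val_mul, hx, neg_smul, one_smul]
  constructor
  · intro hall
    by_contra hrhs
    have hex : Even d ∨ Fintype.card F % 8 = 1 := by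
      by_contra hne
      apply hrhs
      right
      refine ⟨Nat.not_even_iff_odd.mp (fun h => hne (Or.inl h)), fun h => hne (Or.inr h)⟩
    obtain ⟨x, hxΩ, hxx⟩ := (hB F d h2).mpr hex
    have hxiso := hiso x hxΩ
    have hns : ∀ z : F, (x : Matrix (Fin d ⊕ Fin d) (Fin d ⊕ Fin d) F) ≠
        z • (1 : Matrix (Fin d ⊕ Fin d) (Fin d ⊕ Fin d) F) := by
      intro z hz
      have h1 := hscal x z hxiso hz
      rw [hz, Matrix.smul_mul, Matrix.mul_smul, smul_smul, mul_one, h1, one_smul] at hxx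
      have h3 := congrFun (congrFun hxx (Sum.inl ⟨0, hd0⟩)) (Sum.inl ⟨0, hd0⟩)
      rw [Matrix.one_apply_eq, Matrix.neg_apply, Matrix.one_apply_eq] at h3
      apply h2
      linear_combination h3
    obtain ⟨W, ⟨hWm, hWnd, hWnp⟩, hWinv⟩ := hall x hxΩ ⟨-1, hxx2 x hxx⟩ hns
    have hTT' := hTTn x hxx
    obtain ⟨hA1, hA2⟩ := hA F (Fin d ⊕ Fin d → F) B
      (Matrix.toLin' (x : Matrix (Fin d ⊕ Fin d) (Fin d ⊕ Fin d) F)) h2 hBsymm hBnd
      ((hBI x).mp hxiso) hTT'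
    have hWT := (hinvt x W).mpr hWinv
    have hWnd' := (hBN W).mp hWnd
    apply hWnp
    rw [hPlus]
    by_cases hsq : IsSquare (-1 : F)
    · exact hA1 hsq W hWT hWnd'
    · rw [(hA2 hsq).1 W hWT hWnd', hWm]
      have hq4 : Fintype.card F % 4 = 3 := by
        by_contra h
        exact hsq (FiniteField.isSquare_neg_one_iff.mpr h)
      have hde : Even d := by
        rcases hex with h | h
        · exact h
        · omega
      have hm4 : m % 4 ≠ 2 := fun h => hrhs (Or.inl ⟨hde, hq4, h⟩)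
      obtain ⟨j, hj⟩ := hm
      omega
  · rintro hrhs x hxΩ ⟨z, hz⟩ hns
    have hxiso := hiso x hxΩ
    have hz2 : z * z = 1 := hscal (x ^ 2) z (Subgroup.pow_mem _ hxiso 2) hz
    have hTiso := (hBI x).mp hxiso
    rw [pow_two, Units.val_mul] at hz
    rcases mul_self_eq_one_iff.mp hz2 with rfl | rfl
    · rw [one_smul] at hz
      have hTT' := hTT1 x hz
      obtain ⟨W, hWT, hWnd, hWm, hWp⟩ := hInv F (Fin d ⊕ Fin d → F) B
        (Matrix.toLin' (x : Matrix (Fin d ⊕ Fin d) (Fin d ⊕ Fin d) F)) h2 hBsymm hBnd hTiso hTT'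
        m False hm hm2 (by rw [hfr]; omega)
      exact ⟨W, ⟨hWm, (hBN W).mpr hWnd, fun h => hWp.mp ((hPlus W).mp h)⟩, (hinvt x W).mp hWT⟩
    · have hxx : (x : Matrix (Fin d ⊕ Fin d) (Fin d ⊕ Fin d) F) *
          (x : Matrix (Fin d ⊕ Fin d) (Fin d ⊕ Fin d) F) = -1 := by
        rw [hz, neg_smul, one_smul]
      have hTT' := hTTn x hxx
      have hex := (hB F d h2).mp ⟨x, hxΩ, hxx⟩
      obtain ⟨hA1, hA2⟩ := hA F (Fin d ⊕ Fin d → F) B
        (Matrix.toLin' (x : Matrix (Fin d ⊕ Fin d) (Fin d ⊕ Fin d) F)) h2 hBsymm hBnd hTiso hTT'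
      rcases hrhs with ⟨hde, hq4, hm4⟩ | ⟨hdo, hq8⟩
      · have hsq : ¬ IsSquare (-1 : F) := by
          rw [FiniteField.isSquare_neg_one_iff]
          omega
        obtain ⟨hP, hE⟩ := hA2 hsq
        obtain ⟨t, ht⟩ := hm
        obtain ⟨W, hWT, hWnd, hWm⟩ := hE t (by rw [hfr]; omega)
        refine ⟨W, ⟨by rw [hWm]; omega, (hBN W).mpr hWnd, ?_⟩, (hinvt x W).mp hWT⟩
        intro h
        have h5 := (hP W hWT hWnd).mp ((hPlus W).mp h)
        omega
      · exfalso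
        rcases hex with h | h
        · exact (Nat.not_even_iff_odd.mpr hdo) h
        · exact hq8 h

example (hA : StR2a.{u, u}) (hB : StR2b.{u}) (hBr : Cfsg.Agent.H86.Ev2.StBrP.{u})
    (hInv : Cfsg.Agent.H95.Oh.StInv.{u, u}) : Cfsg.Agent.H42.Eq.StR2.{u} := r2 hA hB hBr hInv

end Cfsg.Agent.H98.Eq

#print axioms Cfsg.Agent.H98.Eq.r2
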