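import Mathlib
import Cfsg.Agent.H35.T1683.PAll
import Cfsg.Prelude.Def_Sporadic

set_option autoImplicit false

/-!
# The presented Held group on 2058 points: basic setup (helper98)

`ρ` is the permutation representation of the presented group `He` on the `2058` cosets of
`S₄(4):2` attached to helper35's checked coset table `t1683_pd`; `ap σ x` applies a permutation
of `Fin 2058` to a natural number.  If `He` is simple, `ρ` is faithful, and equalities of words
can be checked on the table.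
-/

namespace Cfsg.Agent.H98.HeC

open Cfsg Cfsg.Spor Cfsg.Agent.H35

/-- the walk of a word in the coset table -/
noncomputable abbrev wk (w : List He.Gen) (x : ℕ) : ℕ := t1683_pd.walk w x

/-- a permutation of `Fin 2058` applied to a natural number -/
def ap (σ : Equiv.Perm (Fin 2058)) (x : ℕ) : ℕ := if h : x < 2058 then (σ ⟨x, h⟩).val else x

theorem ap_of_lt (σ : Equiv.Perm (Fin 2058)) {x : ℕ} (h : x < 2058) :
    ap σ x = (σ ⟨x, h⟩).val := dif_pos h

theorem ap_lt (σ : Equiv.Perm (Fin 2058)) {x : ℕ} (h : x < 2058) : ap σ x < 2058 := by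
  rw [ap_of_lt σ h]
  exact (σ ⟨x, h⟩).isLt

theorem ap_of_ge (σ : Equiv.Perm (Fin 2058)) {x : ℕ} (h : ¬ x < 2058) : ap σ x = x := dif_neg h

theorem ap_one (x : ℕ) : ap 1 x = x := by
  unfold ap
  split_ifs <;> rfl

theorem ap_mul (σ τ : Equiv.Perm (Fin 2058)) (x : ℕ) : ap (σ * τ) x = ap σ (ap τ x) := by
  by_cases h : x < 2058
  · rw [ap_of_lt _ h, ap_of_lt τ h, ap_of_lt σ (τ ⟨x, h⟩).isLt]
    rfl
  · rw [ap_of_ge _ h, ap_of_ge _ h, ap_of_ge _ h]

theorem ap_inv_ap (σ : Equiv.Perm (Fin 2058)) (x : ℕ) : ap σ⁻¹ (ap σ x) = x := by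
  rw [← ap_mul, inv_mul_cancel, ap_one]

theorem ap_ap_inv (σ : Equiv.Perm (Fin 2058)) (x : ℕ) : ap σ (ap σ⁻¹ x) = x := by
  rw [← ap_mul, mul_inv_cancel, ap_one]

theorem ap_injective (σ : Equiv.Perm (Fin 2058)) : Function.Injective (ap σ) := by
  intro x y h
  have := congrArg (ap σ⁻¹) h
  rwa [ap_inv_ap, ap_inv_ap] at this

theorem ap_ext {σ τ : Equiv.Perm (Fin 2058)} (h : ∀ x, x < 2058 → ap σ x = ap τ x) : σ = τ := by
  ext p
  have h1 := h p.val p.isLt
  rw [ap_of_lt _ p.isLt, ap_of_lt _ p.isLt] at h1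
  exact h1

/-- the properties of the permutation representation that we use -/
structure Rep (ρ : He →* Equiv.Perm (Fin 2058)) : Prop where
  walk : ∀ (w : List He.Gen) (x : ℕ), x < 2058 → ap (ρ (uw he_gen w))⁻¹ x = wk w x
  trans : ∀ x, x < 2058 → ∃ g : He, ap (ρ g) 0 = x

theorem permOK : PermOK t1683_pd he_rws he_prels t1683_sw :=
  ⟨by decide, he_gens_all, fun p hp => (Bool.and_eq_true_iff.mp (t1683_pall p hp)).1, t1683_psub⟩

theorem exists_rep : ∃ ρ : He →* Equiv.Perm (Fin 2058), Rep ρ := by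
  obtain ⟨ρ, hw, htr, -⟩ := perm_rep (D := t1683_pd) he_gen he_UP permOK
  refine ⟨ρ, ⟨?_, ?_⟩⟩
  · intro w x hx
    rw [ap_of_lt _ hx]
    exact (hw w ⟨x, hx⟩).symm
  · intro x hx
    obtain ⟨g, hg⟩ := htr ⟨x, hx⟩
    refine ⟨g, ?_⟩
    rw [ap_of_lt _ (by decide : (0 : ℕ) < 2058)]
    exact congrArg Fin.val hg

section Faithful

variable {ρ : He →* Equiv.Perm (Fin 2058)}

theorem Rep.injective (hρ : Rep ρ) (hs : IsSimpleGroup He) : Function.Injective ρ := by
  rw [← MonoidHom.ker_eq_bot_iff]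
  rcases hs.eq_bot_or_eq_top_of_normal ρ.ker inferInstance with h | h
  · exact h
  · exfalso
    obtain ⟨g, hg⟩ := hρ.trans 1 (by decide)
    have h1 : g ∈ ρ.ker := by rw [h]; trivial
    rw [MonoidHom.mem_ker] at h1
    rw [h1, ap_one] at hg
    exact absurd hg (by decide)

/-- equality of (inverses of) words, checked on the table -/
theorem Rep.uw_eq (hρ : Rep ρ) (hs : IsSimpleGroup He) {w w' : List He.Gen}
    (h : ∀ x, x < 2058 → wk w x = wk w' x) : uw he_gen w = uw he_gen w' := by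
  have h1 : (ρ (uw he_gen w))⁻¹ = (ρ (uw he_gen w'))⁻¹ := by
    apply ap_ext
    intro x hx
    rw [hρ.walk w x hx, hρ.walk w' x hx]
    exact h x hx
  exact hρ.injective hs (inv_injective h1)

theorem Rep.ap_inv_uw (hρ : Rep ρ) (w : List He.Gen) {x : ℕ} (hx : x < 2058) :
    ap (ρ (uw he_gen w)⁻¹) x = wk w x := by
  rw [map_inv]
  exact hρ.walk w x hx

end Faithful

/-- a submonoid of a finite group is a subgroup -/
def sgOfSubmonoid {G : Type*} [Group G] [Finite G] (S : Submonoid G) : Subgroup G :=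
  { S with
    inv_mem' := by
      intro x hx
      have h1 : x⁻¹ = x ^ (orderOf x - 1) := by
        apply inv_eq_of_mul_eq_one_right
        rw [← pow_succ', Nat.sub_add_cancel (orderOf_pos x), pow_orderOf_eq_one]
      rw [h1]
      exact S.pow_mem hx _ }

theorem mem_sgOfSubmonoid {G : Type*} [Group G] [Finite G] (S : Submonoid G) (x : G) :
    x ∈ sgOfSubmonoid S ↔ x ∈ S := Iff.rfl

end Cfsg.Agent.H98.HeC
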