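import Cfsg.Agent.H98.HeD1

set_option autoImplicit false
set_option linter.all false

namespace Cfsg.Agent.H98.HeC

open Cfsg Cfsg.Spor Cfsg.Agent.H35

theorem heD1_chk_0 : allR (nodeOK heLT heLP heHw 1472) 3825 9 (0 * 2 ^ 9) = true := by decide +kernel
theorem heD1_chk_4 : allR (nodeOK heLT heLP heHw 1472) 3825 9 (4 * 2 ^ 9) = true := by decide +kernel

end Cfsg.Agent.H98.HeC
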