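import Cfsg.Agent.H98.HeD1c0
import Cfsg.Agent.H98.HeD1c1
import Cfsg.Agent.H98.HeD1c2
import Cfsg.Agent.H98.HeD1c3

set_option autoImplicit false
set_option linter.all false

/-!
# The checked tree certificate and the bound for the centraliser of `e` (helper98)
-/

namespace Cfsg.Agent.H98.HeC

open Cfsg Cfsg.Spor Cfsg.Agent.H35

theorem heD1_step : ∀ i, i < 3825 → nodeOK heLT heLP heHw 1472 i = true := by
  apply allR_blocks (nodeOK heLT heLP heHw 1472) 3825 9 8 _ (by decide)
  intro k hk
  interval_cases k
  · exact heD1_chk_0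
  · exact heD1_chk_1
  · exact heD1_chk_2
  · exact heD1_chk_3
  · exact heD1_chk_4
  · exact heD1_chk_5
  · exact heD1_chk_6
  · exact heD1_chk_7

theorem heD1_root : heFL.all (fun s => memRow (heLT 1472) s) = true := by decide +kernel

theorem heD1_fix0 : allR (fixOK heFL) 2058 10 (0 * 2 ^ 10) = true := by decide +kernel
theorem heD1_fix1 : allR (fixOK heFL) 2058 10 (1 * 2 ^ 10) = true := by decide +kernel
theorem heD1_fix2 : allR (fixOK heFL) 2058 10 (2 * 2 ^ 10) = true := by decide +kernel

theorem heD1_fix : ∀ x, x < 2058 → fixOK heFL x = true := by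
  apply allR_blocks (fixOK heFL) 2058 10 3 _ (by decide)
  intro k hk
  interval_cases k
  · exact heD1_fix0
  · exact heD1_fix1
  · exact heD1_fix2

theorem heFL_lt : ∀ s ∈ heFL, s < 2058 := by decide

theorem heFL_nodup : heFL.Nodup := by decide

theorem heFL_length : heFL.length = 42 := by decide

theorem heFL_zero : 0 ∈ heFL := by decide

/-- the centraliser of the generator `e` of the presented Held group has order at most `21504` -/
theorem he_card_centralizer_le [Finite He] (hHe : Nat.card He = 4030387200)
    {ρ : He →* Equiv.Perm (Fin 2058)} (hρ : Rep ρ) :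
    Nat.card (Subgroup.centralizer ({he_gen He.Gen.e} : Set He)) ≤ 21504 :=
  card_centralizer_le heLT heLP heHw 1472 heFL hHe hρ heFL_lt heFL_nodup heFL_length heFL_zero
    heD1_root heD1_step heD1_fix

end Cfsg.Agent.H98.HeC
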