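import Mathlib
import Cfsg.Agent.H98.HeA
import Cfsg.Agent.H98.C2C

set_option autoImplicit false

/-!
# The presented Held group: the centraliser of `e` against the linear centraliser (helper98)

`Gam` is the centraliser of a transvection of `SL(5, 2)`; it acts faithfully on sixteen points
(indexed by sixteen of the 24 indices of the Golay points).  A table `FT` gives sixteen functions on
a set `Θ` of 336 of the 2058 points of `He`.  The pairs `(k, M)` with `k` in the centraliser of `e`
in `He`, `M ∈ Gam`, such that `k` permutes the sixteen functions as `M` permutes the sixteen points,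
form a subgroup of `He × Gam`; its first projection is injective, and its second projection is
onto as soon as it contains generators.  With `|C(e)| ≤ 21504` this gives an isomorphism.
-/

namespace Cfsg.Agent.H98.HeC

open Cfsg Cfsg.Spor Cfsg.Agent.H35 Cfsg.Agent.H9 Matrix Cfsg.Agent.H98.TransvCent
  Cfsg.Agent.H98.C2A

/-- membership flag of the table -/
def inTh (FT : ℕ → ℕ) (x : ℕ) : Bool := Nat.beq (fld 16 (FT x) 23) 1

/-- the check of a generator: the word `W` permutes the sixteen functions as `code` permutes the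
sixteen indices -/
noncomputable def genOK (FT : ℕ → ℕ) (W : List He.Gen) (code : ℕ) (x : ℕ) : Bool :=
  Bool.rec (motive := fun _ => Bool) true
    (inTh FT (wk W x) &&
      ptL.all (fun i => Nat.beq (fld 16 (FT (wk W x)) (lk code i)) (wk W (fld 16 (FT x) i))))
    (inTh FT x)

/-- the values of the table are points -/
def valOK (FT : ℕ → ℕ) (x : ℕ) : Bool :=
  Bool.rec (motive := fun _ => Bool) true
    (ptL.all (fun i => Nat.blt (fld 16 (FT x) i) 2058)) (inTh FT x)

/-- the check that a word commutes with `e` -/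
noncomputable def commOK (W : List He.Gen) (x : ℕ) : Bool :=
  Nat.beq (wk (W ++ [He.Gen.e]) x) (wk (He.Gen.e :: W) x)

theorem moved_idx : ∀ p : GolayPt, z0 p ≠ p → gIdx p ∈ ptL := by decide

theorem act16_moved (M : Gam) {p : GolayPt} (hp : z0 p ≠ p) :
    z0 (act16 M.1.1 p) ≠ act16 M.1.1 p := by
  have h1 : mv5 M.1.1 (vec16 p) 1 = 1 := by
    rw [mv5_one_coord (row_of_mem M)]
    exact (vec16_spec p hp).1
  have h2 : act16 M.1.1 p = pt16 (mv5 M.1.1 (vec16 p)) := if_pos hp
  rw [h2]
  exact pt16_moved h1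

section Rel

variable (ρ : He →* Equiv.Perm (Fin 2058)) (FT : ℕ → ℕ)

/-- `k` permutes the sixteen functions as `M` permutes the sixteen points -/
def Rel (k : He) (M : Gam) : Prop :=
  ∀ p : GolayPt, z0 p ≠ p → ∀ x, x < 2058 → inTh FT x = true →
    inTh FT (ap (ρ k) x) = true ∧
      fld 16 (FT (ap (ρ k) x)) (gIdx (act16 M.1.1 p)) = ap (ρ k) (fld 16 (FT x) (gIdx p))

theorem rel_one : Rel ρ FT 1 1 := by
  intro p hp x hx hth
  rw [map_one, ap_one, ap_one]
  refine ⟨hth, ?_⟩
  have h1 : ((1 : Gam).1.1 : Matrix (Fin 5) (Fin 5) (ZMod 2)) = 1 := rfl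
  rw [h1, act16_one]

theorem rel_mul {k k' : He} {M M' : Gam} (h : Rel ρ FT k M) (h' : Rel ρ FT k' M') :
    Rel ρ FT (k * k') (M * M') := by
  intro p hp x hx hth
  obtain ⟨h1, h2⟩ := h' p hp x hx hth
  obtain ⟨h3, h4⟩ := h (act16 M'.1.1 p) (act16_moved M' hp) (ap (ρ k') x) (ap_lt _ hx) h1
  rw [map_mul, ap_mul, ap_mul]
  refine ⟨h3, ?_⟩
  have h5 : ((M * M').1.1 : Matrix (Fin 5) (Fin 5) (ZMod 2)) = M.1.1 * M'.1.1 := rfl
  rw [h5, act16_mul _ (row_of_mem M'), h4, h2]

variable {ρ FT}

/-- a checked generator -/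
theorem rel_of_genOK (hρ : Rep ρ) (hval : ∀ x, x < 2058 → valOK FT x = true)
    (W : List He.Gen) (code : ℕ) (g : Gam)
    (hcode : ∀ p : GolayPt, z0 p ≠ p → gIdx (act16 g.1.1 p) = lk code (gIdx p))
    (hchk : ∀ x, x < 2058 → genOK FT W code x = true) : Rel ρ FT (uw he_gen W)⁻¹ g := by
  intro p hp x hx hth
  have h1 := hchk x hx
  unfold genOK at h1
  rw [hth] at h1
  obtain ⟨h2, h3⟩ := Bool.and_eq_true_iff.mp h1
  have h4 := List.all_eq_true.mp h3 (gIdx p) (moved_idx p hp)
  rw [Nat.beq_eq] at h4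
  have h5 := hval x hx
  unfold valOK at h5
  rw [hth] at h5
  have h6 := List.all_eq_true.mp h5 (gIdx p) (moved_idx p hp)
  rw [Nat.blt_eq] at h6
  rw [hρ.ap_inv_uw W hx, hρ.ap_inv_uw W h6, hcode p hp]
  exact ⟨h2, h4⟩

/-- only the identity fixes the sixteen functions -/
theorem eq_one_of_rel_one {x1 x2 : ℕ} (hx1 : x1 < 2058) (hx2 : x2 < 2058)
    (ht1 : inTh FT x1 = true) (ht2 : inTh FT x2 = true)
    (hdist : ∀ i ∈ ptL, ∀ j ∈ ptL, fld 16 (FT x1) i = fld 16 (FT x1) j →
      fld 16 (FT x2) i = fld 16 (FT x2) j → i = j)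
    {M : Gam} (h : Rel ρ FT 1 M) : M = 1 := by
  apply psi16_injective
  refine Equiv.ext (fun p => ?_)
  rw [map_one, psi16_apply, Equiv.Perm.one_apply]
  by_cases hp : z0 p ≠ p
  · have h1 := (h p hp x1 hx1 ht1).2
    have h2 := (h p hp x2 hx2 ht2).2
    rw [map_one, ap_one, ap_one] at h1 h2
    have h3 := hdist _ (moved_idx _ (act16_moved M hp)) _ (moved_idx p hp) h1 h2
    have h4 := congrArg gPt h3
    rwa [gPt_gIdx, gPt_gIdx] at h4
  · rw [act16_fixed _ hp]

end Rel

section Graph

variable (ρ : He →* Equiv.Perm (Fin 2058)) (FT : ℕ → ℕ)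

/-- the graph of the correspondence, as a submonoid -/
def Gm : Submonoid (He × Gam) where
  carrier := {km | km.1 ∈ Subgroup.centralizer ({he_gen He.Gen.e} : Set He) ∧ Rel ρ FT km.1 km.2}
  mul_mem' := by
    rintro a b ⟨ha, ha'⟩ ⟨hb, hb'⟩
    exact ⟨Subgroup.mul_mem _ ha hb, rel_mul ρ FT ha' hb'⟩
  one_mem' := ⟨Subgroup.one_mem _, rel_one ρ FT⟩

variable {ρ FT}

theorem mem_Gm {k : He} {M : Gam} :
    (k, M) ∈ Gm ρ FT ↔
      k ∈ Subgroup.centralizer ({he_gen He.Gen.e} : Set He) ∧ Rel ρ FT k M := Iff.rfl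

/-- a word whose walk commutes with that of `e` gives an element of the centraliser -/
theorem mem_centralizer_of_commOK (hρ : Rep ρ) (hs : IsSimpleGroup He) (W : List He.Gen)
    (h : ∀ x, x < 2058 → commOK W x = true) :
    (uw he_gen W)⁻¹ ∈ Subgroup.centralizer ({he_gen He.Gen.e} : Set He) := by
  apply Subgroup.inv_mem
  rw [Subgroup.mem_centralizer_iff]
  intro y hy
  rw [Set.mem_singleton_iff] at hy
  subst hy
  have h1 : uw he_gen (W ++ [He.Gen.e]) = uw he_gen (He.Gen.e :: W) := by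
    apply hρ.uw_eq hs
    intro x hx
    have h2 := h x hx
    unfold commOK at h2
    rw [Nat.beq_eq] at h2
    exact h2
  rw [uw_append, uw_singleton, uw_cons] at h1
  exact h1.symm

variable [Finite He]

/-- the isomorphism, from the bound for the centraliser and a generating family -/
theorem equiv_of_graph {x1 x2 : ℕ} (hx1 : x1 < 2058) (hx2 : x2 < 2058)
    (ht1 : inTh FT x1 = true) (ht2 : inTh FT x2 = true)
    (hdist : ∀ i ∈ ptL, ∀ j ∈ ptL, fld 16 (FT x1) i = fld 16 (FT x1) j →
      fld 16 (FT x2) i = fld 16 (FT x2) j → i = j)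
    (hC : Nat.card (Subgroup.centralizer ({he_gen He.Gen.e} : Set He)) ≤ 21504)
    (hsurj : ∀ M : Gam, ∃ k : He, (k, M) ∈ Gm ρ FT) :
    Nonempty (Subgroup.centralizer ({he_gen He.Gen.e} : Set He) ≃* Gam) := by
  classical
  set C := Subgroup.centralizer ({he_gen He.Gen.e} : Set He) with hCdef
  set GG : Subgroup (He × Gam) := sgOfSubmonoid (Gm ρ FT) with hGG
  let φ : GG →* C :=
    { toFun := fun g => ⟨g.1.1, ((mem_sgOfSubmonoid _ _).mp g.2).1⟩
      map_one' := rfl
      map_mul' := fun _ _ => rfl }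
  let ψ : GG →* Gam := (MonoidHom.snd He Gam).comp GG.subtype
  have hφ : Function.Injective φ := by
    intro a b hab
    have h1 : a.1.1 = b.1.1 := congrArg (fun c : C => (c : He)) hab
    have h2 : ((a⁻¹ * b : GG) : He × Gam) ∈ GG := (a⁻¹ * b).2
    have h3 : Rel ρ FT ((a⁻¹ * b : GG) : He × Gam).1 ((a⁻¹ * b : GG) : He × Gam).2 :=
      ((mem_sgOfSubmonoid _ _).mp h2).2
    have h4 : ((a⁻¹ * b : GG) : He × Gam).1 = 1 := by
      show a.1.1⁻¹ * b.1.1 = 1
      rw [h1, inv_mul_cancel]
    rw [h4] at h3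
    have h5 : ((a⁻¹ * b : GG) : He × Gam).2 = 1 :=
      eq_one_of_rel_one hx1 hx2 ht1 ht2 hdist h3
    have h6 : a.1.2⁻¹ * b.1.2 = 1 := h5
    have h7 : a.1.2 = b.1.2 := by
      rw [inv_mul_eq_one] at h6
      exact h6
    exact Subtype.ext (Prod.ext h1 h7)
  have hψ : Function.Surjective ψ := by
    intro M
    obtain ⟨k, hk⟩ := hsurj M
    exact ⟨⟨(k, M), (mem_sgOfSubmonoid _ _).mpr hk⟩, rfl⟩
  have c1 : Nat.card GG ≤ Nat.card C := Nat.card_le_card_of_injective φ hφ
  have c2 : Nat.card Gam ≤ Nat.card GG := Nat.card_le_card_of_surjective ψ hψ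
  have c3 : 21504 ≤ Nat.card Gam := card_centralizer_ge
  have hφb : Function.Bijective φ := hφ.bijective_of_nat_card_le (by omega)
  have hψb : Function.Bijective ψ := hψ.bijective_of_nat_card_le (by omega)
  exact ⟨(MulEquiv.ofBijective φ hφb).symm.trans (MulEquiv.ofBijective ψ hψb)⟩

end Graph

/-! ### Generators of the linear centraliser -/

theorem gam_closure (N : Subgroup Gam) (hs : qG 1 0 0 ∈ N)
    (hu : ∀ i : Fin 3, qG 0 (Pi.single i 1) 0 ∈ N) (hc : ∀ i : Fin 3, qG 0 0 (Pi.single i 1) ∈ N)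
    (ht : ∀ (i j : Fin 3) (hij : i ≠ j), iotaG (SpecialLinearGroup.transvection hij 1) ∈ N) :
    N = ⊤ := by
  have hU : ∀ u : Fin 3 → ZMod 2, qG 0 u 0 ∈ N := by
    let U : AddSubmonoid (Fin 3 → ZMod 2) :=
      { carrier := {u | qG 0 u 0 ∈ N}
        add_mem' := by
          intro a b ha hb
          have h1 := N.mul_mem hb ha
          rw [qG_mul] at h1
          simpa using h1
        zero_mem' := by
          show qG 0 0 0 ∈ N
          rw [qG_one]
          exact N.one_mem }
    intro u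
    have h1 : u = ∑ i, Pi.single i (u i) := (Finset.univ_sum_single u).symm
    have h2 : ∑ i, Pi.single i (u i) ∈ U := by
      apply U.sum_mem
      intro i _
      rcases zmod2_cases (u i) with h | h
      · rw [h, Pi.single_zero]
        exact U.zero_mem
      · rw [h]
        exact hu i
    rw [h1]
    exact h2
  have hCc : ∀ c : Fin 3 → ZMod 2, qG 0 0 c ∈ N := by
    let U : AddSubmonoid (Fin 3 → ZMod 2) :=
      { carrier := {c | qG 0 0 c ∈ N}
        add_mem' := by
          intro a b ha hb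
          have h1 := N.mul_mem ha hb
          rw [qG_mul] at h1
          simpa using h1
        zero_mem' := by
          show qG 0 0 0 ∈ N
          rw [qG_one]
          exact N.one_mem }
    intro c
    have h1 : c = ∑ i, Pi.single i (c i) := (Finset.univ_sum_single c).symm
    have h2 : ∑ i, Pi.single i (c i) ∈ U := by
      apply U.sum_mem
      intro i _
      rcases zmod2_cases (c i) with h | h
      · rw [h, Pi.single_zero]
        exact U.zero_mem
      · rw [h]
        exact hc i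
    rw [h1]
    exact h2
  have hA : ∀ a : ZMod 2, qG a 0 0 ∈ N := by
    intro a
    rcases zmod2_cases a with h | h
    · rw [h, qG_one]
      exact N.one_mem
    · rw [h]
      exact hs
  have hQ : ∀ (a : ZMod 2) (u c : Fin 3 → ZMod 2), qG a u c ∈ N := by
    intro a u c
    have h1 := N.mul_mem (N.mul_mem (hCc c) (hA a)) (hU u)
    rw [qG_mul, qG_mul] at h1
    simpa using h1
  have hI : ∀ B : SL3, iotaG B ∈ N := by
    have h : (⊤ : Subgroup SL3) ≤ N.comap iotaG := by
      rw [← Cfsg.Agent.H45.elemSubgroup_eq_top, Cfsg.Agent.H45.elemSubgroup, Subgroup.closure_le]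
      rintro _ ⟨i, j, hij, c, rfl⟩
      show iotaG (SpecialLinearGroup.transvection hij c) ∈ N
      rcases zmod2_cases c with rfl | rfl
      · rw [SpecialLinearGroup.transvection_coeff_zero, map_one]
        exact N.one_mem
      · exact ht i j hij
    intro B
    exact h (Subgroup.mem_top B)
  rw [eq_top_iff]
  intro M _
  obtain ⟨a, u, c, B, hM⟩ := decomp M.2
  have h : M = qG 0 0 c * iotaG B * qG a u 0 := Subtype.ext hM
  rw [h]
  exact N.mul_mem (N.mul_mem (hQ _ _ _) (hI B)) (hQ _ _ _)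

end Cfsg.Agent.H98.HeC
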