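import Cfsg.Agent.H10.HO.Defs2

/-!
# HO-HG (helper98, for helper10's S2075 project)

An automorphism fixing `x, z, t` fixes every word `evS x z t w`; with `w₀ := n⁻¹ β(n)`, `w₀`
commutes with every `β`-fixed `d` whose conjugate `n d n⁻¹` is `β`-fixed, so `w₀ ∈ C(z)` and the
two non-commutation hypotheses leave `w₀ = 1`.
-/

set_option autoImplicit false

namespace Cfsg.Agent.H98.Ho

open Cfsg.Agent.H10.HO

universe u

theorem evS_fixed {G : Type u} [Group G] (x z t : G) (β : MulAut G) (hx : β x = x)
    (hz : β z = z) (ht : β t = t) : ∀ w : List ℕ, β (evS x z t w) = evS x z t w := by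
  intro w
  induction w with
  | nil => simp [evS]
  | cons a w ih =>
    match a with
    | 0 => simp [evS, ih, hx]
    | 1 => simp [evS, ih, hx]
    | 2 => simp [evS, ih, hz]
    | 3 => simp [evS, ih, hz]
    | (m + 4) => simp [evS, ih, ht]

theorem hg : StHG.{u} := by
  intro G _ x z t n k D hC hnz hD hne1 hne2 hgen β hx hz ht
  have hfix := evS_fixed x z t β hx hz ht
  have hzk : β (z ^ k) = z ^ k := by rw [map_pow, hz]
  have key : ∀ d : G, β d = d → β (n * d * n⁻¹) = n * d * n⁻¹ →
      (n⁻¹ * β n) * d = d * (n⁻¹ * β n) := by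
    intro d hd hnd
    rw [map_mul, map_mul, map_inv, hd] at hnd
    have h1 : β n * d = n * d * n⁻¹ * β n := by
      rw [← hnd]; group
    calc n⁻¹ * β n * d = n⁻¹ * (β n * d) := by group
      _ = n⁻¹ * (n * d * n⁻¹ * β n) := by rw [h1]
      _ = d * (n⁻¹ * β n) := by group
  have hw0z : (n⁻¹ * β n) * z = z * (n⁻¹ * β n) := key z hz (by rw [hnz]; exact hzk)
  have hw0D : ∀ p ∈ D, (n⁻¹ * β n) * evS x z t p.1 = evS x z t p.1 * (n⁻¹ * β n) := by
    intro p hp
    exact key _ (hfix _) (by rw [hD p hp]; exact hfix _)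
  obtain ⟨a, ha, h | h⟩ := hC _ hw0z
  · by_cases ha0 : a = 0
    · subst ha0
      rw [pow_zero] at h
      have hn : β n = n := by
        have h2 := congrArg (fun y => n * y) h
        simpa using h2
      apply MulEquiv.ext
      intro g
      have hg : g ∈ Subgroup.closure ({x, z, t, n} : Set G) := by rw [hgen]; trivial
      show β g = g
      induction hg using Subgroup.closure_induction with
      | mem y hy =>
        simp only [Set.mem_insert_iff, Set.mem_singleton_iff] at hy
        rcases hy with rfl | rfl | rfl | rfl <;> assumption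
      | one => exact map_one β
      | mul a b _ _ iha ihb => rw [map_mul, iha, ihb]
      | inv a _ iha => rw [map_inv, iha]
    · exfalso
      obtain ⟨p, hp, hne⟩ := hne1 a (Nat.pos_of_ne_zero ha0) ha
      apply hne
      have h3 := hw0D p hp
      rw [h] at h3
      exact h3
  · exfalso
    obtain ⟨p, hp, hne⟩ := hne2 a ha
    apply hne
    have h3 := hw0D p hp
    rw [h] at h3
    exact h3

example : Cfsg.Agent.H10.HO.StHG.{u} := hg

end Cfsg.Agent.H98.Ho

#print axioms Cfsg.Agent.H98.Ho.hg
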