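import Mathlib
import Cfsg.Agent.H74.MCDefs

set_option autoImplicit false

/-!
# helper98: S4756-CYC1 (for helper74)

A `p'`-abelian group `A` acting fixed-point-freely on a nontrivial normal `p`-subgroup `D` has at
most cyclic `r`-torsion, for every prime `r`.
-/

namespace Cfsg.Agent.H98.MC

open Cfsg Cfsg.Agent.H74.MC Finset

universe u

/-- Reindexing a sum of powers of an element of order dividing a prime `r` by `t ↦ t * j`. -/
theorem cyc1_sum_perm {R : Type*} [Ring R] (a : R) (r : ℕ) (hr : r.Prime) (ha : a ^ r = 1)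
    (j : ℕ) (hj0 : j ≠ 0) (hjr : j < r) :
    ∑ t ∈ range r, a ^ (t * j) = ∑ s ∈ range r, a ^ s := by
  have hcop : Nat.Coprime r j :=
    (Nat.Prime.coprime_iff_not_dvd hr).mpr (Nat.not_dvd_of_pos_of_lt (Nat.pos_of_ne_zero hj0) hjr)
  have hinj : Set.InjOn (fun t => (t * j) % r) (range r : Set ℕ) := by
    intro t ht t' ht' h
    have ht1 := Finset.mem_range.mp (Finset.mem_coe.mp ht)
    have ht2 := Finset.mem_range.mp (Finset.mem_coe.mp ht')
    have h1 : t * j ≡ t' * j [MOD r] := h
    have h2 : t ≡ t' [MOD r] := Nat.ModEq.cancel_right_of_coprime hcop h1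
    exact Nat.ModEq.eq_of_lt_of_lt h2 ht1 ht2
  have himg : (range r).image (fun t => (t * j) % r) = range r := by
    apply Finset.eq_of_subset_of_card_le
    · intro x hx
      obtain ⟨t, _, rfl⟩ := Finset.mem_image.mp hx
      exact Finset.mem_range.mpr (Nat.mod_lt _ hr.pos)
    · rw [Finset.card_image_of_injOn hinj]
  calc ∑ t ∈ range r, a ^ (t * j) = ∑ t ∈ range r, a ^ ((t * j) % r) :=
        Finset.sum_congr rfl (fun t _ => pow_eq_pow_mod _ ha)
    _ = ∑ s ∈ (range r).image (fun t => (t * j) % r), a ^ s := (Finset.sum_image hinj).symm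
    _ = ∑ s ∈ range r, a ^ s := by rw [himg]

/-- The ring identity behind CYC1. -/
theorem cyc1_ring {R : Type*} [Ring R] (a b : R) (hab : Commute a b) (r : ℕ) (hr : r.Prime)
    (ha : a ^ r = 1) :
    ∑ t ∈ range r, ∑ j ∈ range r, (a ^ t * b) ^ j =
      (r : R) + (∑ j ∈ (range r).erase 0, b ^ j) * ∑ s ∈ range r, a ^ s := by
  rw [Finset.sum_comm]
  have h0 : 0 ∈ range r := Finset.mem_range.mpr hr.pos
  rw [← Finset.add_sum_erase _ _ h0]
  congr 1
  · simp
  · rw [Finset.sum_mul]
    apply Finset.sum_congr rfl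
    intro j hj
    rw [Finset.mem_erase, Finset.mem_range] at hj
    rw [← cyc1_sum_perm a r hr ha j hj.1 hj.2, Finset.mul_sum]
    apply Finset.sum_congr rfl
    intro t _
    rw [(hab.pow_left t).mul_pow, ← pow_mul]
    exact ((hab.pow_left (t * j)).pow_right j).eq

/-- The norm of a fixed-point-free endomorphism of order dividing `r` vanishes. -/
theorem cyc1_fix {M : Type*} [AddCommGroup M] (e : AddMonoid.End M) (r : ℕ) (he : e ^ r = 1)
    (hf : ∀ x : M, e x = x → x = 0) (x : M) : (∑ i ∈ range r, e ^ i) x = 0 := by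
  apply hf
  have h := mul_geom_sum e r
  rw [he, sub_self] at h
  have h2 : ((e - 1) * ∑ i ∈ range r, e ^ i) x = 0 := by rw [h]; rfl
  have h3 : ((e - 1) * ∑ i ∈ range r, e ^ i) x =
      e ((∑ i ∈ range r, e ^ i) x) - (∑ i ∈ range r, e ^ i) x := rfl
  rw [h3] at h2
  exact sub_eq_zero.mp h2

/-- Two commuting endomorphisms of order dividing a prime `r` of an abelian group, such that
`a` and all `a ^ t * b` are fixed-point-free: the group has exponent dividing `r`. -/
theorem cyc1_key {M : Type*} [AddCommGroup M] (a b : AddMonoid.End M) (hab : Commute a b) (r : ℕ)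
    (hr : r.Prime) (ha : a ^ r = 1) (hb : b ^ r = 1) (hfa : ∀ x : M, a x = x → x = 0)
    (hf : ∀ t : ℕ, ∀ x : M, (a ^ t * b) x = x → x = 0) (x : M) : r • x = 0 := by
  have h := DFunLike.congr_fun (cyc1_ring a b hab r hr ha) x
  have hL : (∑ t ∈ range r, ∑ j ∈ range r, (a ^ t * b) ^ j) x = 0 := by
    have hev : ∀ (s : Finset ℕ) (f : ℕ → AddMonoid.End M), (∑ t ∈ s, f t) x = ∑ t ∈ s, f t x :=
      fun s f => map_sum (AddMonoidHom.eval x) f s
    rw [hev]
    apply Finset.sum_eq_zero
    intro t _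
    apply cyc1_fix
    · rw [(hab.pow_left t).mul_pow, ← pow_mul, mul_comm t r, pow_mul, ha, one_pow, hb, one_mul]
    · exact hf t
  have hR : ((r : AddMonoid.End M) + (∑ j ∈ (range r).erase 0, b ^ j) * ∑ s ∈ range r, a ^ s) x =
      r • x := by
    have h1 : ((r : AddMonoid.End M) + (∑ j ∈ (range r).erase 0, b ^ j) * ∑ s ∈ range r, a ^ s) x =
        (r : AddMonoid.End M) x + (∑ j ∈ (range r).erase 0, b ^ j) ((∑ s ∈ range r, a ^ s) x) := rfl
    rw [h1, cyc1_fix a r ha hfa x, map_zero, add_zero]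
    simp
  rw [hL, hR] at h
  exact h.symm

/-- **S4756-CYC1.** -/
theorem cyc1 : StCyc1.{u} := by
  intro G _ _ p _ A D hDn hDp hDne hcop hab hfpf r hr e₁ he₁ e₂ he₂ he1 he1r he2r
  by_contra hnot
  classical
  -- `W`: the centre of `D`, as a subgroup of `G`
  let W : Subgroup G :=
    { carrier := {w | w ∈ D ∧ ∀ d ∈ D, d * w = w * d}
      mul_mem' := by
        intro x y hx hy
        refine ⟨D.mul_mem hx.1 hy.1, ?_⟩
        intro d hd
        rw [← mul_assoc, hx.2 d hd, mul_assoc, hy.2 d hd, mul_assoc]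
      one_mem' := ⟨D.one_mem, fun d _ => by simp⟩
      inv_mem' := by
        intro x hx
        refine ⟨D.inv_mem hx.1, ?_⟩
        intro d hd
        have := hx.2 d hd
        calc d * x⁻¹ = x⁻¹ * (x * d) * x⁻¹ := by group
          _ = x⁻¹ * (d * x) * x⁻¹ := by rw [this]
          _ = x⁻¹ * d := by group }
  have hWmem : ∀ w : G, w ∈ W ↔ (w ∈ D ∧ ∀ d ∈ D, d * w = w * d) := fun w => Iff.rfl
  have hWcomm : ∀ x ∈ W, ∀ y ∈ W, x * y = y * x := fun x hx y hy => ((hWmem y).mp hy).2 x hx.1
  have hWconj : ∀ g : G, ∀ w ∈ W, g * w * g⁻¹ ∈ W := by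
    intro g w hw
    refine ⟨hDn.conj_mem w hw.1 g, ?_⟩
    intro d hd
    have h1 : g⁻¹ * d * g ∈ D := by simpa using hDn.conj_mem d hd g⁻¹
    have h2 := hw.2 _ h1
    calc d * (g * w * g⁻¹) = g * ((g⁻¹ * d * g) * w) * g⁻¹ := by group
      _ = g * (w * (g⁻¹ * d * g)) * g⁻¹ := by rw [h2]
      _ = g * w * g⁻¹ * d := by group
  have hWne : ∃ w ∈ W, w ≠ 1 := by
    haveI : Nontrivial ↥D := (Subgroup.nontrivial_iff_ne_bot D).mpr hDne
    have hcn := hDp.center_nontrivial
    obtain ⟨z, hz⟩ := exists_ne (1 : Subgroup.center ↥D)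
    refine ⟨((z : ↥D) : G), ⟨(z : ↥D).2, ?_⟩, ?_⟩
    · intro d hd
      have := Subgroup.mem_center_iff.mp z.2 ⟨d, hd⟩
      exact congrArg Subtype.val this
    · intro h
      apply hz
      apply Subtype.ext
      apply Subtype.ext
      exact h
  -- the commutative group structure on `W`
  letI : CommGroup ↥W :=
    { (inferInstance : Group ↥W) with
      mul_comm := fun a b => Subtype.ext (hWcomm a.1 a.2 b.1 b.2) }
  -- conjugation as endomorphisms of `Additive W`
  let φ : G →* AddMonoid.End (Additive ↥W) :=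
    { toFun := fun g =>
        { toFun := fun x =>
            Additive.ofMul ⟨g * (Additive.toMul x : ↥W).1 * g⁻¹, hWconj g _ (Additive.toMul x).2⟩
          map_zero' := by
            apply congrArg Additive.ofMul
            apply Subtype.ext
            simp
          map_add' := by
            intro x y
            apply congrArg Additive.ofMul
            apply Subtype.ext
            simp }
      map_one' := by
        refine AddMonoidHom.ext (fun x => ?_)
        apply Additive.toMul.injective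
        apply Subtype.ext
        show 1 * ((Additive.toMul x : ↥W) : G) * 1⁻¹ = ((Additive.toMul x : ↥W) : G)
        simp
      map_mul' := by
        intro g h
        refine AddMonoidHom.ext (fun x => ?_)
        apply Additive.toMul.injective
        apply Subtype.ext
        show g * h * ((Additive.toMul x : ↥W) : G) * (g * h)⁻¹ =
          g * (h * ((Additive.toMul x : ↥W) : G) * h⁻¹) * g⁻¹
        group }
  have hφ : ∀ (g : G) (x : Additive ↥W), ((Additive.toMul (φ g x) : ↥W) : G) =
      g * ((Additive.toMul x : ↥W) : G) * g⁻¹ := fun g x => rfl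
  have hfix : ∀ g ∈ A, g ≠ 1 → ∀ x : Additive ↥W, φ g x = x → x = 0 := by
    intro g hg hg1 x hx
    have h1 : g * ((Additive.toMul x : ↥W) : G) * g⁻¹ = ((Additive.toMul x : ↥W) : G) := by
      rw [← hφ g x, hx]
    have h2 : g * ((Additive.toMul x : ↥W) : G) = ((Additive.toMul x : ↥W) : G) * g := by
      rw [mul_inv_eq_iff_eq_mul] at h1
      exact h1
    have h3 := hfpf g hg hg1 _ (Additive.toMul x).2.1 h2
    apply Additive.toMul.injective
    apply Subtype.ext
    simpa using h3
  -- the ring-theoretic key lemma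
  have hkey : ∀ x : Additive ↥W, r • x = 0 := by
    apply cyc1_key (φ e₁) (φ e₂) _ r hr
    · rw [← map_pow, he1r, map_one]
    · rw [← map_pow, he2r, map_one]
    · exact hfix e₁ he₁ he1
    · intro t x
      rw [← map_pow, ← map_mul]
      apply hfix _ (A.mul_mem (A.pow_mem he₁ t) he₂)
      intro h
      apply hnot
      have : e₂ = (e₁ ^ t)⁻¹ := eq_inv_of_mul_eq_one_right h
      rw [this]
      exact Subgroup.inv_mem _ (Subgroup.pow_mem _ (Subgroup.mem_zpowers e₁) t)
    · show φ e₁ * φ e₂ = φ e₂ * φ e₁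
      rw [← map_mul, ← map_mul, hab e₁ he₁ e₂ he₂]
  -- conclude
  obtain ⟨w, hw, hw1⟩ := hWne
  have hwr : w ^ r = 1 := by
    have := hkey (Additive.ofMul ⟨w, hw⟩)
    have h2 : ((Additive.toMul (r • Additive.ofMul (⟨w, hw⟩ : ↥W)) : ↥W) : G) = w ^ r := by
      simp
    rw [this] at h2
    simpa using h2.symm
  have hordw : orderOf w = r := by
    haveI : Fact r.Prime := ⟨hr⟩
    exact orderOf_eq_prime hwr hw1
  obtain ⟨k, hk⟩ := hDp ⟨w, hw.1⟩
  have hk' : w ^ (p ^ k) = 1 := by
    have := congrArg Subtype.val hk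
    simpa using this
  have hrp : r ∣ p ^ k := by
    rw [← hordw]; exact orderOf_dvd_of_pow_eq_one hk'
  have hrp' : r ∣ p := hr.dvd_of_dvd_pow hrp
  have hpr : r = p := (Nat.prime_dvd_prime_iff_eq hr (Fact.out : p.Prime)).mp hrp'
  have horde : orderOf e₁ = r := by
    haveI : Fact r.Prime := ⟨hr⟩
    exact orderOf_eq_prime he1r he1
  have hdvd : r ∣ Nat.card ↥A := by
    rw [← horde]; exact Subgroup.orderOf_dvd_natCard A he₁
  have hp1 : p ∣ Nat.gcd (Nat.card ↥A) p := Nat.dvd_gcd (hpr ▸ hdvd) (dvd_refl p)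
  rw [Nat.Coprime] at hcop
  rw [hcop] at hp1
  exact (Fact.out : p.Prime).one_lt.ne' (Nat.dvd_one.mp hp1)

example : Cfsg.Agent.H74.MC.StCyc1.{u} := cyc1

end Cfsg.Agent.H98.MC

#print axioms Cfsg.Agent.H98.MC.cyc1
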