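import Mathlib
import Cfsg.Agent.H74.MCDefs

set_option autoImplicit false

/-!
# helper98: S4756-CYC2 (for helper74)

An abelian subgroup in which, for every prime `r`, the elements of order dividing `r` lie in one
cyclic subgroup, is cyclic.
-/

namespace Cfsg.Agent.H98.MC

open Cfsg Cfsg.Agent.H74.MC Finset

universe u

/-- In a commutative finite group where the `r`-torsion is at most cyclic for every prime `r`,
the `n`-torsion has at most `n` elements. -/
theorem cyc2_count {B : Type u} [CommGroup B] [Fintype B] [DecidableEq B]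
    (hr : ∀ (r : ℕ), r.Prime → ∀ e₁ e₂ : B, e₁ ≠ 1 → e₁ ^ r = 1 → e₂ ^ r = 1 →
      e₂ ∈ Subgroup.zpowers e₁) :
    ∀ n : ℕ, 0 < n → #{a : B | a ^ n = 1} ≤ n := by
  -- the prime case
  have hprime : ∀ r : ℕ, r.Prime → #{a : B | a ^ r = 1} ≤ r := by
    intro r hrp
    by_cases hex : ∃ e₁ : B, e₁ ≠ 1 ∧ e₁ ^ r = 1
    · obtain ⟨e₁, he1, he1r⟩ := hex
      haveI : Fact r.Prime := ⟨hrp⟩
      have hord : orderOf e₁ = r := orderOf_eq_prime he1r he1
      have hsub : ({a : B | a ^ r = 1} : Finset B) ⊆ (Finset.range r).image (e₁ ^ ·) := by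
        intro a ha
        rw [Finset.mem_filter] at ha
        have h1 := hr r hrp e₁ a he1 he1r ha.2
        rw [← mem_powers_iff_mem_zpowers, mem_powers_iff_mem_range_orderOf, hord] at h1
        exact h1
      calc #{a : B | a ^ r = 1} ≤ #((Finset.range r).image (e₁ ^ ·)) := Finset.card_le_card hsub
        _ ≤ #(Finset.range r) := Finset.card_image_le
        _ = r := Finset.card_range r
    · have hsub : ({a : B | a ^ r = 1} : Finset B) ⊆ {1} := by
        intro a ha
        rw [Finset.mem_filter] at ha
        rw [Finset.mem_singleton]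
        by_contra h
        exact hex ⟨a, h, ha.2⟩
      calc #{a : B | a ^ r = 1} ≤ #({1} : Finset B) := Finset.card_le_card hsub
        _ = 1 := Finset.card_singleton _
        _ ≤ r := hrp.one_lt.le
  intro n
  induction n using Nat.strong_induction_on with
  | _ n ih =>
    intro hn
    rcases Nat.eq_or_lt_of_le (Nat.one_le_of_lt hn) with h1 | h1
    · subst h1
      have : ({a : B | a ^ 1 = 1} : Finset B) ⊆ {1} := by
        intro a ha
        rw [Finset.mem_filter] at ha
        simpa using ha.2
      exact (Finset.card_le_card this).trans (by simp)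
    · -- `n = r * m`
      have hrp : (n.minFac).Prime := Nat.minFac_prime (by omega)
      set r := n.minFac with hr_def
      obtain ⟨m, hm⟩ : r ∣ n := Nat.minFac_dvd n
      have hmpos : 0 < m := by
        rcases Nat.eq_zero_or_pos m with h | h
        · subst h; omega
        · exact h
      have hmlt : m < n := by
        have := hrp.one_lt
        nlinarith
      have him : ({a : B | a ^ n = 1} : Finset B).image (fun a => a ^ r) ⊆
          ({a : B | a ^ m = 1} : Finset B) := by
        intro b hb
        rw [Finset.mem_image] at hb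
        obtain ⟨a, ha, rfl⟩ := hb
        rw [Finset.mem_filter] at ha ⊢
        refine ⟨Finset.mem_univ _, ?_⟩
        rw [← pow_mul, ← hm]
        exact ha.2
      have hfib : ∀ b ∈ ({a : B | a ^ n = 1} : Finset B).image (fun a => a ^ r),
          #{a ∈ ({a : B | a ^ n = 1} : Finset B) | (fun a => a ^ r) a = b} ≤ r := by
        intro b hb
        rw [Finset.mem_image] at hb
        obtain ⟨a₀, _, rfl⟩ := hb
        have hinj : #{a ∈ ({a : B | a ^ n = 1} : Finset B) | (fun a => a ^ r) a = a₀ ^ r} ≤
            #{a : B | a ^ r = 1} := by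
          apply Finset.card_le_card_of_injOn (fun a => a * a₀⁻¹)
          · intro a ha
            have ha' := (Finset.mem_filter.mp (Finset.mem_coe.mp ha)).2
            rw [Finset.mem_coe, Finset.mem_filter]
            refine ⟨Finset.mem_univ _, ?_⟩
            show (a * a₀⁻¹) ^ r = 1
            have ha'' : a ^ r = a₀ ^ r := ha'
            rw [mul_pow, inv_pow, ha'', mul_inv_cancel]
          · intro a _ b _ hab
            exact mul_right_cancel hab
        exact hinj.trans (hprime r hrp)
      calc #{a : B | a ^ n = 1}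
          ≤ r * #(({a : B | a ^ n = 1} : Finset B).image (fun a => a ^ r)) :=
            Finset.card_le_mul_card_image _ r hfib
        _ ≤ r * #{a : B | a ^ m = 1} := Nat.mul_le_mul_left r (Finset.card_le_card him)
        _ ≤ r * m := Nat.mul_le_mul_left r (ih m hmlt hmpos)
        _ = n := hm.symm

/-- **S4756-CYC2.** -/
theorem cyc2 : StCyc2.{u} := by
  intro G _ _ A hab hr
  classical
  haveI : Fintype ↥A := Fintype.ofFinite _
  letI : CommGroup ↥A :=
    { (inferInstance : Group ↥A) with
      mul_comm := fun a b => Subtype.ext (hab a.1 a.2 b.1 b.2) }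
  have hcount := cyc2_count (B := ↥A) (by
    intro r hrp e₁ e₂ he1 he1r he2r
    have h1 : (e₁ : G) ≠ 1 := fun h => he1 (Subtype.ext h)
    have h2 : (e₁ : G) ^ r = 1 := by
      have := congrArg Subtype.val he1r
      simpa using this
    have h3 : (e₂ : G) ^ r = 1 := by
      have := congrArg Subtype.val he2r
      simpa using this
    have h4 := hr r hrp e₁.1 e₁.2 e₂.1 e₂.2 h1 h2 h3
    rw [Subgroup.mem_zpowers_iff] at h4 ⊢
    obtain ⟨k, hk⟩ := h4
    exact ⟨k, Subtype.ext (by simpa using hk)⟩)
  exact isCyclic_of_card_pow_eq_one_le hcount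

example : Cfsg.Agent.H74.MC.StCyc2.{u} := cyc2

end Cfsg.Agent.H98.MC

#print axioms Cfsg.Agent.H98.MC.cyc2
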