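import Mathlib

/-!
# helper98: the stabilizer of a partition (fibres of a map) in the symmetric group

`Cfsg.Agent.H98.partStab f` is the subgroup of permutations `g` with
`f x = f y ↔ f (g x) = f (g y)`. Main result: `isCoatom_partStab` (imprimitive wreath
product `S_a ≀ S_b` is maximal in `S_{ab}` for `a, b ≥ 2`).
-/

set_option autoImplicit false

namespace Cfsg.Agent.H98

variable {Ω β : Type*}

/-- The stabilizer of the partition of `Ω` into the fibres of `f`. -/
def partStab (f : Ω → β) : Subgroup (Equiv.Perm Ω) where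
  carrier := {g | ∀ x y, f x = f y ↔ f (g x) = f (g y)}
  one_mem' := fun _ _ => Iff.rfl
  mul_mem' := by
    intro g h hg hh x y
    exact (hh x y).trans (hg (h x) (h y))
  inv_mem' := by
    intro g hg x y
    have := hg (g⁻¹ x) (g⁻¹ y)
    have hx : g (g⁻¹ x) = x := g.apply_symm_apply x
    have hy : g (g⁻¹ y) = y := g.apply_symm_apply y
    rw [hx, hy] at this
    exact this.symm

theorem mem_partStab {f : Ω → β} {g : Equiv.Perm Ω} :
    g ∈ partStab f ↔ ∀ x y, f x = f y ↔ f (g x) = f (g y) := Iff.rfl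

theorem closure_partStab (f : Ω → β) :
    Subgroup.closure {g : Equiv.Perm Ω | ∀ x y : Ω, f x = f y ↔ f (g x) = f (g y)} = partStab f :=
  Subgroup.closure_eq (partStab f)

/-- A permutation that preserves every fibre lies in the partition stabilizer. -/
theorem mem_partStab_of_forall {f : Ω → β} {g : Equiv.Perm Ω} (h : ∀ x, f (g x) = f x) :
    g ∈ partStab f := fun x y => by rw [h x, h y]

theorem swap_mem_partStab [DecidableEq Ω] {f : Ω → β} {x y : Ω} (h : f x = f y) :
    Equiv.swap x y ∈ partStab f := by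
  apply mem_partStab_of_forall
  intro u
  rw [Equiv.swap_apply_def]
  split_ifs with h1 h2
  · rw [h1, h]
  · rw [h2, h]
  · rfl

/-- An identification of `Ω` with `Fin b × Fin a` along `f`, when all fibres have size `a`. -/
noncomputable def fibEquiv [Finite Ω] {a b : ℕ} (f : Ω → Fin b)
    (hf : ∀ i : Fin b, Nat.card {x : Ω // f x = i} = a) : Ω ≃ Fin b × Fin a :=
  (Equiv.sigmaFiberEquiv f).symm.trans
    ((Equiv.sigmaCongrRight fun i =>
      (Finite.card_eq.mp ((hf i).trans (Nat.card_fin a).symm)).some).trans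
      (Equiv.sigmaEquivProd (Fin b) (Fin a)))

theorem fibEquiv_fst [Finite Ω] {a b : ℕ} (f : Ω → Fin b)
    (hf : ∀ i : Fin b, Nat.card {x : Ω // f x = i} = a) (x : Ω) :
    (fibEquiv f hf x).1 = f x := rfl

/-- Block permutations: every permutation of the labels is induced by an element of the
partition stabilizer. -/
theorem exists_mem_partStab_perm [Finite Ω] {a b : ℕ} (f : Ω → Fin b)
    (hf : ∀ i : Fin b, Nat.card {x : Ω // f x = i} = a) (τ : Equiv.Perm (Fin b)) :
    ∃ k ∈ partStab f, ∀ x, f (k x) = τ (f x) := by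
  set e := fibEquiv f hf with he
  have key : ∀ x, f ((e.trans ((Equiv.prodCongr τ (Equiv.refl (Fin a))).trans e.symm)) x)
      = τ (f x) := by
    intro x
    rw [← fibEquiv_fst f hf, ← fibEquiv_fst f hf x]
    simp [← he]
  refine ⟨e.trans ((Equiv.prodCongr τ (Equiv.refl (Fin a))).trans e.symm), ?_, key⟩
  intro x y
  rw [key, key, τ.injective.eq_iff]

/-- The partition stabilizer is transitive on ordered pairs of points in different blocks. -/
theorem exists_mem_partStab_pair [Finite Ω] [DecidableEq Ω] {a b : ℕ} (f : Ω → Fin b)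
    (hf : ∀ i : Fin b, Nat.card {x : Ω // f x = i} = a) {u v p q : Ω}
    (huv : f u ≠ f v) (hpq : f p ≠ f q) :
    ∃ k ∈ partStab f, k u = p ∧ k v = q := by
  -- a permutation of labels
  set τ₁ : Equiv.Perm (Fin b) := Equiv.swap (f u) (f p) with hτ₁
  set j₁ := τ₁ (f v) with hj₁
  have hj₁p : j₁ ≠ f p := by
    intro h
    have h1 : τ₁ (f u) = f p := Equiv.swap_apply_left _ _
    rw [← h1] at h
    exact huv (τ₁.injective h).symm
  set τ₂ : Equiv.Perm (Fin b) := Equiv.swap j₁ (f q) with hτ₂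
  have hτu : (τ₂ * τ₁) (f u) = f p := by
    rw [Equiv.Perm.mul_apply, hτ₁, Equiv.swap_apply_left, hτ₂,
      Equiv.swap_apply_of_ne_of_ne (Ne.symm hj₁p) hpq]
  have hτv : (τ₂ * τ₁) (f v) = f q := by
    rw [Equiv.Perm.mul_apply, ← hj₁, hτ₂, Equiv.swap_apply_left]
  obtain ⟨k₁, hk₁, hk₁f⟩ := exists_mem_partStab_perm f hf (τ₂ * τ₁)
  have hu₁ : f (k₁ u) = f p := by rw [hk₁f, hτu]
  have hv₁ : f (k₁ v) = f q := by rw [hk₁f, hτv]
  have hne1 : k₁ v ≠ k₁ u := fun h => hpq (by rw [← hu₁, ← hv₁, h])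
  have hne2 : k₁ v ≠ p := fun h => hpq (by rw [← hv₁, h])
  have hne3 : p ≠ q := fun h => hpq (by rw [h])
  refine ⟨Equiv.swap (k₁ v) q * Equiv.swap (k₁ u) p * k₁,
    (partStab f).mul_mem ((partStab f).mul_mem (swap_mem_partStab hv₁) (swap_mem_partStab hu₁)) hk₁,
    ?_, ?_⟩
  · rw [Equiv.Perm.mul_apply, Equiv.Perm.mul_apply, Equiv.swap_apply_left,
      Equiv.swap_apply_of_ne_of_ne (Ne.symm hne2) hne3]
  · rw [Equiv.Perm.mul_apply, Equiv.Perm.mul_apply,
      Equiv.swap_apply_of_ne_of_ne hne1 hne2, Equiv.swap_apply_left]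

/-- If a subgroup contains the partition stabilizer and one transposition joining two different
blocks, then it is the whole symmetric group. -/
theorem eq_top_of_swap_mem [Finite Ω] [DecidableEq Ω] {a b : ℕ} (f : Ω → Fin b)
    (hf : ∀ i : Fin b, Nat.card {x : Ω // f x = i} = a) (L : Subgroup (Equiv.Perm Ω))
    (hL : partStab f ≤ L) {u v : Ω} (huv : f u ≠ f v) (hswap : Equiv.swap u v ∈ L) : L = ⊤ := by
  rw [eq_top_iff, ← Equiv.Perm.closure_isSwap, Subgroup.closure_le]
  rintro σ ⟨p, q, _, rfl⟩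
  by_cases hpq : f p = f q
  · exact hL (swap_mem_partStab hpq)
  · obtain ⟨k, hk, rfl, rfl⟩ := exists_mem_partStab_pair f hf huv hpq
    rw [SetLike.mem_coe, Equiv.swap_apply_apply]
    exact L.mul_mem (L.mul_mem (hL hk) hswap) (L.inv_mem (hL hk))

/-- Any subgroup properly containing the partition stabilizer is the whole symmetric group. -/
theorem eq_top_of_partStab_lt [Finite Ω] [DecidableEq Ω] {a b : ℕ} (f : Ω → Fin b)
    (hf : ∀ i : Fin b, Nat.card {x : Ω // f x = i} = a) (L : Subgroup (Equiv.Perm Ω))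
    (hL : partStab f < L) : L = ⊤ := by
  obtain ⟨g, hgL, hgK⟩ := SetLike.exists_of_lt hL
  have : ∃ x y, ¬ (f x = f y ↔ f (g x) = f (g y)) := by
    by_contra hcon
    apply hgK
    intro x y
    by_contra h
    exact hcon ⟨x, y, h⟩
  obtain ⟨x, y, hxy⟩ := this
  by_cases h1 : f x = f y
  · have h2 : f (g x) ≠ f (g y) := fun h => hxy ⟨fun _ => h, fun _ => h1⟩
    apply eq_top_of_swap_mem f hf L hL.le h2
    rw [Equiv.swap_apply_apply]
    exact L.mul_mem (L.mul_mem hgL (hL.le (swap_mem_partStab h1))) (L.inv_mem hgL)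
  · have h2 : f (g x) = f (g y) := by
      by_contra h
      exact hxy ⟨fun h' => absurd h' h1, fun h' => absurd h' h⟩
    apply eq_top_of_swap_mem f hf L hL.le h1
    have h3 : Equiv.swap x y = g⁻¹ * Equiv.swap (g x) (g y) * g := by
      rw [Equiv.swap_apply_apply]
      group
    rw [h3]
    exact L.mul_mem (L.mul_mem (L.inv_mem hgL) (hL.le (swap_mem_partStab h2))) hgL

/-- The partition stabilizer is a proper subgroup when there are at least two blocks of size at
least two. -/
theorem partStab_ne_top [Finite Ω] [DecidableEq Ω] {a b : ℕ} (ha : 2 ≤ a) (hb : 2 ≤ b)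
    (f : Ω → Fin b) (hf : ∀ i : Fin b, Nat.card {x : Ω // f x = i} = a) : partStab f ≠ ⊤ := by
  intro htop
  have hnt : ∀ i : Fin b, Nontrivial {x : Ω // f x = i} := fun i =>
    Finite.one_lt_card_iff_nontrivial.mp (by rw [hf i]; omega)
  obtain ⟨⟨x, hx⟩, ⟨y, hy⟩, hxy⟩ := (hnt ⟨0, by omega⟩).exists_pair_ne
  obtain ⟨⟨z, hz⟩, -⟩ := (hnt ⟨1, by omega⟩).exists_pair_ne
  have hxy' : x ≠ y := fun h => hxy (Subtype.ext h)
  have hfz : f z ≠ f x := by
    rw [hz, hx]
    intro h
    have := congrArg Fin.val h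
    simp at this
  have hxz : x ≠ z := fun h => hfz (by rw [h])
  have hmem : Equiv.swap y z ∈ partStab f := htop ▸ Subgroup.mem_top _
  have := (hmem x y).mp (hx.trans hy.symm)
  rw [Equiv.swap_apply_of_ne_of_ne hxy' hxz, Equiv.swap_apply_left] at this
  exact hfz this.symm

/-- The imprimitive wreath product `S_a ≀ S_b` (stabilizer of a partition into `b ≥ 2` blocks of
size `a ≥ 2`) is a maximal subgroup of the symmetric group. -/
theorem isCoatom_partStab [Finite Ω] [DecidableEq Ω] {a b : ℕ} (ha : 2 ≤ a) (hb : 2 ≤ b)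
    (f : Ω → Fin b) (hf : ∀ i : Fin b, Nat.card {x : Ω // f x = i} = a) :
    IsCoatom (partStab f) :=
  ⟨partStab_ne_top ha hb f hf, fun L hL => eq_top_of_partStab_lt f hf L hL⟩

end Cfsg.Agent.H98
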