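import Mathlib

/-!
# helper98: derived length of sections, 2-groups of large derived length, and a solvable
maximal subgroup of `A₅`
-/

set_option autoImplicit false

namespace Cfsg.Agent.H98

open scoped commutatorElement

/-- If a group `B` embeds in `A` and maps onto `D`, the derived length of `A` is at least that
of `D`. -/
theorem derivedSeries_ne_bot_of_section {A B D : Type*} [Group A] [Group B] [Group D]
    (ι : B →* A) (hι : Function.Injective ι) (ψ : B →* D) (hψ : Function.Surjective ψ) (d : ℕ)
    (hD : derivedSeries D d ≠ ⊥) : derivedSeries A d ≠ ⊥ := by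
  intro h
  apply hD
  rw [← map_derivedSeries_eq hψ d]
  have h1 : (derivedSeries B d).map ι ≤ derivedSeries A d := map_derivedSeries_le_derivedSeries ι d
  rw [h, le_bot_iff, Subgroup.map_eq_bot_iff_of_injective _ hι] at h1
  rw [h1, Subgroup.map_bot]

/-- Variant: if moreover the image of `B` lies in the commutator subgroup of `A`, the derived
length of `A` is larger than that of `D`. -/
theorem derivedSeries_succ_ne_bot_of_section {A B D : Type*} [Group A] [Group B] [Group D]
    (ι : B →* A) (hι : Function.Injective ι) (hcomm : ∀ b, ι b ∈ commutator A)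
    (ψ : B →* D) (hψ : Function.Surjective ψ) (d : ℕ)
    (hD : derivedSeries D d ≠ ⊥) : derivedSeries A (d + 1) ≠ ⊥ := by
  have key : ∀ n, (derivedSeries B n).map ι ≤ derivedSeries A (n + 1) := by
    intro n
    induction n with
    | zero =>
      rw [derivedSeries_one]
      rintro _ ⟨b, -, rfl⟩
      exact hcomm b
    | succ n ih =>
      rw [derivedSeries_succ B n, Subgroup.map_commutator, derivedSeries_succ A (n + 1)]
      exact Subgroup.commutator_mono ih ih
  intro h
  apply hD
  rw [← map_derivedSeries_eq hψ d]
  have h1 := key d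
  rw [h, le_bot_iff, Subgroup.map_eq_bot_iff_of_injective _ hι] at h1
  rw [h1, Subgroup.map_bot]

/-- The derived length of a regular wreath product with a nontrivial group is larger. -/
theorem derivedSeries_wreath_ne_bot {S C : Type*} [Group S] [Group C] [DecidableEq C]
    [Nontrivial C] (d : ℕ) (hS : derivedSeries S d ≠ ⊥) :
    derivedSeries (RegularWreathProduct S C) (d + 1) ≠ ⊥ := by
  obtain ⟨c₀, hc₀⟩ := exists_ne (1 : C)
  set B : Subgroup (RegularWreathProduct S C) :=
    commutator (RegularWreathProduct S C) ⊓ (RegularWreathProduct.rightHom).ker with hB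
  have hright : ∀ b : B, (b : RegularWreathProduct S C).right = 1 := fun b => b.2.2
  let ψ : B →* S :=
    { toFun := fun b => (b : RegularWreathProduct S C).left 1
      map_one' := rfl
      map_mul' := by
        intro a b
        show ((a : RegularWreathProduct S C) * (b : RegularWreathProduct S C)).left 1 = _
        rw [RegularWreathProduct.mul_left, Pi.mul_apply, hright a]
        simp }
  refine derivedSeries_succ_ne_bot_of_section B.subtype B.subtype_injective (fun b => b.2.1) ψ ?_
    d hS
  intro s
  have hmem : ⁅(⟨Pi.mulSingle 1 s, 1⟩ : RegularWreathProduct S C), RegularWreathProduct.inl c₀⁆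
      ∈ B := by
    refine Subgroup.mem_inf.mpr ⟨?_, ?_⟩
    · rw [commutator_def]
      exact Subgroup.commutator_mem_commutator (Subgroup.mem_top _) (Subgroup.mem_top _)
    · rw [MonoidHom.mem_ker, commutatorElement_def]
      simp [RegularWreathProduct.mul_right, RegularWreathProduct.inv_right]
  refine ⟨⟨_, hmem⟩, ?_⟩
  show (⁅(⟨Pi.mulSingle 1 s, 1⟩ : RegularWreathProduct S C),
    RegularWreathProduct.inl c₀⁆).left 1 = s
  rw [commutatorElement_def]
  simp [RegularWreathProduct.mul_left, RegularWreathProduct.inv_left,
    RegularWreathProduct.mul_right, RegularWreathProduct.inv_right, Pi.mulSingle_apply, hc₀]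

/-- Finite 2-groups of arbitrarily large derived length. -/
theorem exists_two_group (d : ℕ) : ∃ (S : Type) (_ : Group S) (_ : Finite S),
    (∃ k, Nat.card S = 2 ^ k) ∧ derivedSeries S d ≠ ⊥ := by
  induction d with
  | zero =>
    refine ⟨Multiplicative (ZMod 2), inferInstance, inferInstance, ⟨1, ?_⟩, ?_⟩
    · rw [Nat.card_congr Multiplicative.toAdd, Nat.card_zmod, pow_one]
    · rw [derivedSeries_zero]
      exact top_ne_bot
  | succ d ih =>
    obtain ⟨S, hS, hfin, ⟨k, hk⟩, hd⟩ := ih
    refine ⟨RegularWreathProduct S (Multiplicative (ZMod 2)), inferInstance, inferInstance,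
      ⟨2 * k + 1, ?_⟩, derivedSeries_wreath_ne_bot d hd⟩
    rw [RegularWreathProduct.card, hk, Nat.card_congr Multiplicative.toAdd, Nat.card_zmod]
    ring

/-- A proper subgroup of a finite simple group has index `k` with `|G| ≤ k!`. -/
theorem card_le_factorial_index {G : Type*} [Group G] [Finite G] [IsSimpleGroup G]
    (L : Subgroup G) (hL : L ≠ ⊤) : Nat.card G ≤ (L.index).factorial := by
  have hinj : Function.Injective (MulAction.toPermHom G (G ⧸ L)) := by
    rw [← MonoidHom.ker_eq_bot_iff, ← Subgroup.normalCore_eq_ker]
    rcases (Subgroup.normalCore_normal L).eq_bot_or_eq_top with h | h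
    · exact h
    · exfalso
      apply hL
      rw [eq_top_iff, ← h]
      exact Subgroup.normalCore_le L
  have h1 := Nat.card_le_card_of_injective _ hinj
  rwa [Nat.card_perm] at h1

/-- A group of prime order is solvable. -/
theorem isSolvable_of_prime_card {G : Type*} [Group G] {p : ℕ} [Fact p.Prime]
    (h : Nat.card G = p) : Group.IsSolvable G := by
  have : IsCyclic G := isCyclic_of_prime_card h
  obtain ⟨g, hg⟩ := IsCyclic.exists_generator (α := G)
  apply Group.isSolvable_of_comm
  intro a b
  obtain ⟨m, rfl⟩ := Subgroup.mem_zpowers_iff.mp (hg a)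
  obtain ⟨n, rfl⟩ := Subgroup.mem_zpowers_iff.mp (hg b)
  exact (Commute.zpow_zpow_self g m n).eq

/-- `A₅` has a solvable maximal subgroup (the normalizer of a Sylow 5-subgroup). -/
theorem exists_solvable_coatom_A5 :
    ∃ M : Subgroup (alternatingGroup (Fin 5)), IsCoatom M ∧ Group.IsSolvable M := by
  have hsimple : IsSimpleGroup (alternatingGroup (Fin 5)) :=
    alternatingGroup.isSimpleGroup (by simp)
  have hQ : Nat.card (alternatingGroup (Fin 5)) = 60 := by
    rw [nat_card_alternatingGroup, Nat.card_fin]
    rfl
  have hp5 : Fact (Nat.Prime 5) := ⟨by norm_num⟩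
  have hp2 : Fact (Nat.Prime 2) := ⟨by norm_num⟩
  obtain ⟨P⟩ : Nonempty (Sylow 5 (alternatingGroup (Fin 5))) := Sylow.nonempty
  have hPcard : Nat.card P = 5 := by
    obtain ⟨k, hk⟩ := IsPGroup.iff_card.mp P.isPGroup'
    have h1 := (P : Subgroup (alternatingGroup (Fin 5))).card_mul_index
    have h2 : ¬ 5 ∣ (P : Subgroup (alternatingGroup (Fin 5))).index := P.not_dvd_index
    rw [hQ] at h1
    have hk1 : k ≤ 1 := by
      by_contra hcon
      have h3 : 5 ^ 2 ∣ 5 ^ k := Nat.pow_dvd_pow 5 (by omega)
      have h4 : 5 ^ k ∣ 60 := by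
        rw [← hk, ← h1]
        exact Dvd.intro _ rfl
      have := h3.trans h4
      omega
    have hk' : k = 0 ∨ k = 1 := by omega
    rcases hk' with rfl | rfl
    · exfalso
      apply h2
      rw [hk] at h1
      omega
    · rw [hk]
      rfl
  set N : Subgroup (alternatingGroup (Fin 5)) :=
    Subgroup.normalizer (P : Set (alternatingGroup (Fin 5))) with hN
  have hn5 : Nat.card (Sylow 5 (alternatingGroup (Fin 5))) = N.index :=
    Sylow.card_eq_index_normalizer P
  have hmod : Nat.card (Sylow 5 (alternatingGroup (Fin 5))) ≡ 1 [MOD 5] :=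
    card_sylow_modEq_one 5 (alternatingGroup (Fin 5))
  have hdvd : Nat.card (Sylow 5 (alternatingGroup (Fin 5))) ∣
      (P : Subgroup (alternatingGroup (Fin 5))).index := Sylow.card_dvd_index P
  have hPidx : (P : Subgroup (alternatingGroup (Fin 5))).index = 12 := by
    have := (P : Subgroup (alternatingGroup (Fin 5))).card_mul_index
    rw [hPcard, hQ] at this
    omega
  have hNidx : N.index = 6 := by
    rw [← hn5]
    rw [hPidx] at hdvd
    have h1 : Nat.card (Sylow 5 (alternatingGroup (Fin 5))) ≤ 12 :=
      Nat.le_of_dvd (by norm_num) hdvd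
    have h2 : Nat.card (Sylow 5 (alternatingGroup (Fin 5))) ≠ 1 := by
      intro h
      rw [hn5] at h
      have hNtop : N = ⊤ := Subgroup.index_eq_one.mp h
      have hnormal : (P : Subgroup (alternatingGroup (Fin 5))).Normal :=
        Subgroup.normalizer_eq_top_iff.mp hNtop
      rcases hnormal.eq_bot_or_eq_top with hb | ht
      · rw [hb, Subgroup.index_bot, hQ] at hPidx
        omega
      · rw [ht, Subgroup.index_top] at hPidx
        omega
    have h3 : Nat.card (Sylow 5 (alternatingGroup (Fin 5))) % 5 = 1 := hmod
    generalize Nat.card (Sylow 5 (alternatingGroup (Fin 5))) = m at hdvd h1 h2 h3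
    interval_cases m <;> omega
  have hNcard : Nat.card N = 10 := by
    have := N.card_mul_index
    rw [hNidx, hQ] at this
    omega
  refine ⟨N, ⟨?_, ?_⟩, ?_⟩
  · intro htop
    rw [htop, Subgroup.index_top] at hNidx
    omega
  · intro L hL
    by_contra hLtop
    have h1 := card_le_factorial_index L hLtop
    rw [hQ] at h1
    have h2 : L.index ∣ N.index := Subgroup.index_dvd_of_le hL.le
    rw [hNidx] at h2
    have h3 : L.index ≠ 6 := by
      intro h6
      have hc := L.card_mul_index
      rw [h6, hQ] at hc
      have hLcard : Nat.card L = 10 := by omega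
      have : N = L := Subgroup.eq_of_le_of_card_ge hL.le (by rw [hLcard, hNcard])
      exact hL.ne this
    have h4 : L.index ≤ 6 := Nat.le_of_dvd (by norm_num) h2
    have h5 : L.index ≤ 3 := by
      generalize L.index = m at h2 h3 h4
      interval_cases m <;> omega
    have h6 : (L.index).factorial ≤ (3 : ℕ).factorial := Nat.factorial_le h5
    have h7 : (3 : ℕ).factorial = 6 := rfl
    omega
  · have hPN : (P : Subgroup (alternatingGroup (Fin 5))) ≤ N := Subgroup.le_normalizer
    have hnorm : ((P : Subgroup (alternatingGroup (Fin 5))).subgroupOf N).Normal :=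
      Subgroup.normal_in_normalizer
    have hc1 : Nat.card ((P : Subgroup (alternatingGroup (Fin 5))).subgroupOf N) = 5 := by
      rw [Nat.card_congr (Subgroup.subgroupOfEquivOfLe hPN).toEquiv]
      exact hPcard
    have hc2 : Nat.card (↥N ⧸ (P : Subgroup (alternatingGroup (Fin 5))).subgroupOf N) = 2 := by
      have := Subgroup.card_eq_card_quotient_mul_card_subgroup
        ((P : Subgroup (alternatingGroup (Fin 5))).subgroupOf N)
      rw [hNcard, hc1] at this
      omega
    have hs1 : Group.IsSolvable ((P : Subgroup (alternatingGroup (Fin 5))).subgroupOf N) :=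
      isSolvable_of_prime_card hc1
    have hs2 : Group.IsSolvable (↥N ⧸ (P : Subgroup (alternatingGroup (Fin 5))).subgroupOf N) :=
      isSolvable_of_prime_card hc2
    exact Group.isSolvable_of_ker_le_range
      ((P : Subgroup (alternatingGroup (Fin 5))).subgroupOf N).subtype
      (QuotientGroup.mk' ((P : Subgroup (alternatingGroup (Fin 5))).subgroupOf N)) (by simp)

end Cfsg.Agent.H98
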