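import Mathlib
import Cfsg.Agent.H13.SchDefs

set_option autoImplicit false

/-!
# Piece S4394-P5 (helper98, for helper13): transport of `SLike` along an isomorphism.
-/

namespace Cfsg.Agent.H98.Sch

open scoped commutatorElement
open Cfsg
open Cfsg.Agent.H13.Sch

theorem mem_center_equiv_iff {T T' : Type*} [Group T] [Group T'] (e : T ≃* T') (v : T) :
    v ∈ Subgroup.center T ↔ e v ∈ Subgroup.center T' := by
  rw [Subgroup.mem_center_iff, Subgroup.mem_center_iff]
  constructor
  · intro h g
    have := h (e.symm g)
    have h2 := congrArg e this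
    rw [map_mul, map_mul, MulEquiv.apply_symm_apply] at h2
    exact h2
  · intro h g
    have := h (e g)
    rw [← map_mul, ← map_mul] at this
    exact e.injective this

theorem card_center_equiv {T T' : Type*} [Group T] [Group T'] (e : T ≃* T') :
    Nat.card (Subgroup.center T) = Nat.card (Subgroup.center T') :=
  Nat.card_congr (Equiv.subtypeEquiv e.toEquiv (fun v => mem_center_equiv_iff e v))

/-- piece S4394-P5. -/
theorem sLike_of_equiv {T T' : Type*} [Group T] [Group T'] (p : ℕ) (e : T ≃* T')
    (h : SLike p T) : SLike p T' := by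
  rcases h with h | ⟨h1, h2, h3, h4, h5⟩
  · left
    intro a b
    have := congrArg e (h (e.symm a) (e.symm b))
    rw [map_mul, map_mul, MulEquiv.apply_symm_apply, MulEquiv.apply_symm_apply] at this
    exact this
  · right
    have hcomm : ∀ a b : T', e ⁅e.symm a, e.symm b⁆ = ⁅a, b⁆ := by
      intro a b
      rw [map_commutatorElement, MulEquiv.apply_symm_apply, MulEquiv.apply_symm_apply]
    have hcen : ∀ v : T', v ∈ Subgroup.center T' ↔ e.symm v ∈ Subgroup.center T := by
      intro v
      rw [mem_center_equiv_iff e, MulEquiv.apply_symm_apply]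
    have hcardT : Nat.card T = Nat.card T' := Nat.card_congr e.toEquiv
    have hcardZ := card_center_equiv e
    refine ⟨?_, ?_, ?_, ?_, ?_⟩
    · intro a b c
      have := congrArg e (h1 (e.symm a) (e.symm b) (e.symm c))
      rw [map_mul, map_mul, hcomm, MulEquiv.apply_symm_apply] at this
      exact this
    · intro u
      rw [hcen, map_pow]
      exact h2 (e.symm u)
    · intro v hv a b
      obtain ⟨g, hg⟩ := h3 (e.symm v) (fun hc => hv ((hcen v).mpr hc)) (e.symm a) (e.symm b)
      refine ⟨e g, ?_⟩
      have := congrArg e hg
      rw [hcomm, map_commutatorElement, MulEquiv.apply_symm_apply] at this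
      exact this
    · intro hp hcard v hv hv2
      rw [← hcardT, ← hcardZ] at hcard
      apply h4 hp hcard (e.symm v) (fun hc => hv ((hcen v).mpr hc))
      rw [← map_pow, hv2, map_one]
    · intro hp hcard
      rw [← hcardT, ← hcardZ] at hcard
      exact h5 hp hcard

end Cfsg.Agent.H98.Sch
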