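import Cfsg.Agent.H52.SrDefs

/-!
# SR-CW (helper52's SR mini-project for S2951 / S2952)

Different components centralize each other's commutator on `V`.
-/

set_option autoImplicit false
open Cfsg

namespace Cfsg.Agent.H98.Sr

open Cfsg.Agent.H52.Sn Cfsg.Agent.H52.Sr
open scoped commutatorElement

universe u

/-- For `c ∈ C_X(V)` and `V` normal: `[v, c x] = [v, x]`. -/
theorem cw_comm_mul {X : Type u} [Group X] (V : Subgroup X) [V.Normal] (c x v : X)
    (hc : c ∈ Subgroup.centralizer (V : Set X)) (hv : v ∈ V) :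
    ⁅v, c * x⁆ = ⁅v, x⁆ := by
  have h1 : x * v⁻¹ * x⁻¹ ∈ V := Subgroup.Normal.conj_mem inferInstance _ (V.inv_mem hv) x
  have h2 : (x * v⁻¹ * x⁻¹) * c = c * (x * v⁻¹ * x⁻¹) :=
    (Subgroup.mem_centralizer_iff.mp hc) _ h1
  rw [commutatorElement_def, commutatorElement_def]
  have : v * (c * x) * v⁻¹ * (c * x)⁻¹ = v * (c * (x * v⁻¹ * x⁻¹)) * c⁻¹ := by group
  rw [this, ← h2]
  group

/-- For `c ∈ C_X(V)`: `[v, (c x)⁻¹] = [v, x⁻¹]`. -/
theorem cw_comm_mul_inv {X : Type u} [Group X] (V : Subgroup X) (c x v : X)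
    (hc : c ∈ Subgroup.centralizer (V : Set X)) (hv : v ∈ V) :
    ⁅v, (c * x)⁻¹⁆ = ⁅v, x⁻¹⁆ := by
  have h2 : v⁻¹ * c = c * v⁻¹ := (Subgroup.mem_centralizer_iff.mp hc) _ (V.inv_mem hv)
  rw [commutatorElement_def, commutatorElement_def]
  have : v * (c * x)⁻¹ * v⁻¹ * (c * x)⁻¹⁻¹ = v * x⁻¹ * c⁻¹ * (v⁻¹ * c) * x := by group
  rw [this, h2]
  group

/-- The subgroup of the elements `h` with `[V, h], [V, h⁻¹] ⊆ W` (for `W ≤ V`). -/
def cwD {X : Type u} [Group X] (V W : Subgroup X) (hWV : W ≤ V) : Subgroup X where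
  carrier := {h | ∀ v ∈ V, ⁅v, h⁆ ∈ W ∧ ⁅v, h⁻¹⁆ ∈ W}
  one_mem' := by
    intro v _
    simp [commutatorElement_def]
  inv_mem' := by
    intro h hh v hv
    have := hh v hv
    refine ⟨this.2, ?_⟩
    rw [inv_inv]
    exact this.1
  mul_mem' := by
    intro a b ha hb v hv
    -- conjugation by `a` and `a⁻¹` preserve `W`
    have hca : ∀ u ∈ W, a * u * a⁻¹ ∈ W := by
      intro u hu
      have h1 := (ha u (hWV hu)).1
      have h3 : a * u * a⁻¹ = (⁅u, a⁆)⁻¹ * u := by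
        rw [commutatorElement_def]; group
      rw [h3]
      exact W.mul_mem (W.inv_mem h1) hu
    have hca' : ∀ u ∈ W, a⁻¹ * u * a ∈ W := by
      intro u hu
      have h1 := (ha u (hWV hu)).2
      have h3 : a⁻¹ * u * a = (⁅u, a⁻¹⁆)⁻¹ * u := by
        rw [commutatorElement_def]; group
      rw [h3]
      exact W.mul_mem (W.inv_mem h1) hu
    have hcb' : ∀ u ∈ W, b⁻¹ * u * b ∈ W := by
      intro u hu
      have h1 := (hb u (hWV hu)).2
      have h3 : b⁻¹ * u * b = (⁅u, b⁻¹⁆)⁻¹ * u := by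
        rw [commutatorElement_def]; group
      rw [h3]
      exact W.mul_mem (W.inv_mem h1) hu
    constructor
    · have h3 : ⁅v, a * b⁆ = ⁅v, a⁆ * (a * ⁅v, b⁆ * a⁻¹) := by
        simp only [commutatorElement_def]; group
      rw [h3]
      exact W.mul_mem (ha v hv).1 (hca _ (hb v hv).1)
    · have h3 : ⁅v, (a * b)⁻¹⁆ = ⁅v, b⁻¹⁆ * (b⁻¹ * ⁅v, a⁻¹⁆ * b) := by
        simp only [commutatorElement_def]; group
      rw [h3]
      exact W.mul_mem (hb v hv).2 (hcb' _ (ha v hv).2)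

theorem cw : ∀ (_ : Cfsg.Agent.H52.Sn.StAbs.{u}), StCW.{u} := by
  intro hAbs X _ _ V T Q M J K₁ O₁ K₂ O₂ _ hV hF1 hF2 h1 h2 hne
  classical
  set C := Subgroup.centralizer (V : Set X) with hC
  set W1 := ⁅V, K₁⁆ with hW1
  set W2 := ⁅V, K₂⁆ with hW2
  have hW1V : W1 ≤ V := Subgroup.commutator_le_left V K₁
  -- `W1 ⊓ W2 = ⊥`
  have hbot : W1 ⊓ W2 = ⊥ := by
    by_contra hb
    exact hne (hAbs V T Q M J K₁ O₁ K₂ O₂ hV hF1 hF2 h1 h2 hb)
  -- `K_i ≤ M`
  have hKM : ∀ K : Subgroup X, ⁅K, J⁆ = K → K ≤ M := by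
    intro K hK
    rw [← hK]
    have := hF1.hM
    exact (Subgroup.commutator_mono le_rfl hF1.hJM).trans (Subgroup.commutator_le_right K M)
  have hK1M : K₁ ≤ M := hKM K₁ hF1.hKJ
  have hK2M : K₂ ≤ M := hKM K₂ hF2.hKJ
  -- Claim A: odd `y ∈ K₂` normalizes `W1`
  have hA : ∀ y ∈ K₂, Odd (orderOf y) → ∀ w ∈ W1, y * w * y⁻¹ ∈ W1 := by
    intro y hy hyo
    -- `K₁^y ≤ D'`
    have hD : K₁.map (MulAut.conj y).toMonoidHom ≤ cwD V W1 hW1V := by
      rw [← hF1.hKgen, MonoidHom.map_closure, Subgroup.closure_le]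
      rintro _ ⟨x, ⟨hxK, hxo⟩, rfl⟩
      have hc : y * x * y⁻¹ * x⁻¹ ∈ C := hF1.hcomm y (hK2M hy) x (hK1M hxK) hyo hxo
      have hyx : (MulAut.conj y).toMonoidHom x = (y * x * y⁻¹ * x⁻¹) * x := by
        simp [MulAut.conj_apply]
      show (MulAut.conj y).toMonoidHom x ∈ cwD V W1 hW1V
      rw [hyx]
      intro v hv
      constructor
      · rw [cw_comm_mul V _ x v hc hv]
        exact Subgroup.commutator_mem_commutator hv hxK
      · rw [cw_comm_mul_inv V _ x v hc hv]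
        exact Subgroup.commutator_mem_commutator hv (K₁.inv_mem hxK)
    have hmap : W1.map (MulAut.conj y).toMonoidHom ≤ W1 := by
      rw [hW1, Subgroup.commutator_def, MonoidHom.map_closure, Subgroup.closure_le]
      rintro _ ⟨g, ⟨v, hv, k, hk, rfl⟩, rfl⟩
      have hv' : y * v * y⁻¹ ∈ V := Subgroup.Normal.conj_mem inferInstance _ hv y
      have hk' : y * k * y⁻¹ ∈ cwD V W1 hW1V :=
        hD ⟨k, hk, by simp [MulAut.conj_apply]⟩
      have : (MulAut.conj y).toMonoidHom ⁅v, k⁆ = ⁅y * v * y⁻¹, y * k * y⁻¹⁆ := by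
        simp only [MulEquiv.coe_toMonoidHom, MulAut.conj_apply, commutatorElement_def]
        group
      show (MulAut.conj y).toMonoidHom ⁅v, k⁆ ∈ _
      rw [this]
      exact (hk' _ hv').1
    intro w hw
    exact hmap ⟨w, hw, by simp [MulAut.conj_apply]⟩
  -- odd `y ∈ K₂` centralizes `W1`
  have hcent : ∀ y ∈ K₂, Odd (orderOf y) → ∀ w ∈ W1, y * w = w * y := by
    intro y hy hyo w hw
    have hm1 : ⁅w, y⁆ ∈ W1 := by
      have : ⁅w, y⁆ = w * (y * w⁻¹ * y⁻¹) := by rw [commutatorElement_def]; group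
      rw [this]
      exact W1.mul_mem hw (hA y hy hyo _ (W1.inv_mem hw))
    have hm2 : ⁅w, y⁆ ∈ W2 := Subgroup.commutator_mem_commutator (hW1V hw) hy
    have hm : ⁅w, y⁆ ∈ W1 ⊓ W2 := ⟨hm1, hm2⟩
    rw [hbot, Subgroup.mem_bot] at hm
    have := commutatorElement_eq_one_iff_mul_comm.mp hm
    exact this.symm
  -- conclusion
  intro w hw
  rw [Subgroup.mem_centralizer_iff]
  intro k hk
  have hk' : k ∈ Subgroup.closure {g : X | g ∈ K₂ ∧ Odd (orderOf g)} := by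
    rw [hF2.hKgen]; exact hk
  have hle : Subgroup.closure {g : X | g ∈ K₂ ∧ Odd (orderOf g)} ≤
      Subgroup.centralizer ({w} : Set X) := by
    rw [Subgroup.closure_le]
    rintro y ⟨hy, hyo⟩
    show y ∈ Subgroup.centralizer ({w} : Set X)
    rw [Subgroup.mem_centralizer_iff]
    intro z hz
    rw [Set.mem_singleton_iff] at hz
    subst hz
    exact (hcent y hy hyo z hw).symm
  have := hle hk'
  rw [Subgroup.mem_centralizer_iff] at this
  exact (this w rfl).symm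

example : ∀ (_ : Cfsg.Agent.H52.Sn.StAbs.{u}), Cfsg.Agent.H52.Sr.StCW.{u} := cw

end Cfsg.Agent.H98.Sr

#print axioms Cfsg.Agent.H98.Sr.cw
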