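import Mathlib

/-!
# S5965 team project: multiplicities of a diagonal matrix (shared by the witness pieces)
-/

set_option autoImplicit false

open scoped MatrixGroups

namespace Cfsg.Agent.H98.Sub

variable {F : Type*} [Field F] {n : ℕ}

/-- The multiplicity of `ν` among the entries of `d`. -/
def mu [DecidableEq F] (d : Fin n → F) (ν : F) : ℕ :=
  (Finset.univ.filter (fun i => d i = ν)).card

theorem diagonal_sub_smul_one (d : Fin n → F) (ν : F) :
    Matrix.diagonal d - ν • (1 : Matrix (Fin n) (Fin n) F) =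
      Matrix.diagonal (fun i => d i - ν) := by
  rw [Matrix.smul_one_eq_diagonal, Matrix.diagonal_sub]

theorem rank_diagonal_sub [DecidableEq F] (d : Fin n → F) (ν : F) :
    (Matrix.diagonal d - ν • (1 : Matrix (Fin n) (Fin n) F)).rank + mu d ν = n := by
  rw [diagonal_sub_smul_one, Matrix.rank_diagonal, Fintype.card_subtype]
  have h := Finset.card_filter_add_card_filter_not
    (s := (Finset.univ : Finset (Fin n))) (fun i => d i = ν)
  rw [Finset.card_univ, Fintype.card_fin] at h
  have e : Finset.univ.filter (fun i => d i - ν ≠ 0) =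
      Finset.univ.filter (fun i => ¬ d i = ν) := by
    ext i
    simp [sub_eq_zero]
  rw [e]
  unfold mu
  omega

theorem mu_eq_of_rank_eq [DecidableEq F] (d : Fin n → F) (ν ν' : F)
    (h : (Matrix.diagonal d - ν • (1 : Matrix (Fin n) (Fin n) F)).rank =
      (Matrix.diagonal d - ν' • (1 : Matrix (Fin n) (Fin n) F)).rank) : mu d ν = mu d ν' := by
  have h1 := rank_diagonal_sub d ν
  have h2 := rank_diagonal_sub d ν'
  omega

omit [Field F] in
theorem mu_pos_iff [DecidableEq F] (d : Fin n → F) (ν : F) : 0 < mu d ν ↔ ∃ i, d i = ν := by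
  unfold mu
  rw [Finset.card_pos, Finset.filter_nonempty_iff]
  simp

/-- An element killed by a prime `r` and by a number prime to `r` is trivial. -/
theorem eq_one_of_pow (r q : ℕ) (hr : r.Prime) (hNR : ¬ r ∣ q) (θ : F) (h1 : θ ^ q = 1)
    (h2 : θ ^ r = 1) : θ = 1 := by
  have ho1 := orderOf_dvd_of_pow_eq_one h1
  have ho2 := orderOf_dvd_of_pow_eq_one h2
  rcases (Nat.dvd_prime hr).mp ho2 with h | h
  · exact orderOf_eq_one_iff.mp h
  · rw [h] at ho1; exact absurd ho1 hNR

end Cfsg.Agent.H98.Sub
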