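import Mathlib
import Cfsg.Agent.H98.SubDiag

/-!
# S5965 team project, piece WB: the witness `diag(ζ, …, ζ, 1, …, 1)` (`r` copies of `ζ`)
-/

set_option autoImplicit false

open scoped MatrixGroups

namespace Cfsg.Agent.H98.Sub

variable {F : Type*} [Field F] [Fintype F]

theorem exists_witness_B (F₀ : Subfield F) (n r : ℕ) (hr : r.Prime)
    (hNR : ¬ r ∣ Nat.card ↥F₀ - 1) (hrn : r < n) (hn2 : n ≠ 2 * r) (ζ : F) (hζ : ζ ^ r = 1)
    (hζ1 : ζ ≠ 1) :
    ∃ M : Matrix (Fin n) (Fin n) F, M.det = 1 ∧ M ^ r = 1 ∧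
      (∀ z : F, M ≠ z • (1 : Matrix (Fin n) (Fin n) F)) ∧
      ¬ ∃ τ : F, τ ≠ 0 ∧ ∀ ν : F, (M - ν • (1 : Matrix (Fin n) (Fin n) F)).rank
        = (M - (τ * ν ^ Nat.card ↥F₀) • (1 : Matrix (Fin n) (Fin n) F)).rank := by
  classical
  obtain ⟨d, hd⟩ : ∃ d : Fin n → F, d = fun i : Fin n => if (i : ℕ) < r then ζ else 1 := ⟨_, rfl⟩
  have hζ0 : ζ ≠ 0 := by
    rintro rfl
    rw [zero_pow hr.ne_zero] at hζ
    exact zero_ne_one hζ
  have hq0 : 0 < Nat.card ↥F₀ := Nat.card_pos
  have hmuζ : mu d ζ = r := by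
    unfold mu
    have e : Finset.univ.filter (fun i : Fin n => d i = ζ) =
        Finset.univ.filter (fun i : Fin n => (i : ℕ) < r) := by
      ext i
      simp only [Finset.mem_filter, Finset.mem_univ, true_and, hd]
      constructor
      · intro h
        by_contra hlt
        rw [if_neg hlt] at h
        exact hζ1 h.symm
      · intro h
        rw [if_pos h]
    rw [e, Fin.card_filter_val_lt]
    omega
  have hmu1 : mu d 1 = n - r := by
    unfold mu
    have e : Finset.univ.filter (fun i : Fin n => d i = 1) =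
        Finset.univ.filter (fun i : Fin n => ¬ (i : ℕ) < r) := by
      ext i
      simp only [Finset.mem_filter, Finset.mem_univ, true_and, hd]
      constructor
      · intro h hlt
        rw [if_pos hlt] at h
        exact hζ1 h
      · intro h
        rw [if_neg h]
    rw [e]
    have h := Finset.card_filter_add_card_filter_not
      (s := (Finset.univ : Finset (Fin n))) (fun i : Fin n => (i : ℕ) < r)
    rw [Fin.card_filter_val_lt, Finset.card_univ, Fintype.card_fin] at h
    omega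
  have hmu0 : ∀ ν, ν ≠ ζ → ν ≠ 1 → mu d ν = 0 := by
    intro ν h1 h2
    unfold mu
    rw [Finset.card_eq_zero, Finset.filter_eq_empty_iff]
    intro i _
    rw [hd]
    show ¬ (if (i : ℕ) < r then ζ else 1) = ν
    split_ifs
    · exact fun h => h1 h.symm
    · exact fun h => h2 h.symm
  refine ⟨Matrix.diagonal d, ?_, ?_, ?_, ?_⟩
  · rw [Matrix.det_diagonal, hd, Finset.prod_ite, Finset.prod_const, Finset.prod_const_one,
      mul_one, Fin.card_filter_val_lt, Nat.min_eq_right hrn.le, hζ]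
  · rw [Matrix.diagonal_pow]
    have e : d ^ r = fun _ => (1 : F) := by
      funext i
      rw [Pi.pow_apply, hd]
      show (if (i : ℕ) < r then ζ else 1) ^ r = 1
      split_ifs
      · exact hζ
      · exact one_pow r
    rw [e]
    exact Matrix.diagonal_one
  · intro z hz
    rw [Matrix.smul_one_eq_diagonal] at hz
    have hinj := Matrix.diagonal_injective hz
    have h0 : d ⟨0, lt_of_le_of_lt (Nat.zero_le _) hrn⟩ = z := congrFun hinj _
    have h1 : d ⟨r, hrn⟩ = z := congrFun hinj _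
    have e0 : d ⟨0, lt_of_le_of_lt (Nat.zero_le _) hrn⟩ = ζ := by
      rw [hd]; exact if_pos hr.pos
    have e1 : d ⟨r, hrn⟩ = 1 := by
      rw [hd]; exact if_neg (lt_irrefl r)
    exact hζ1 (by rw [← e0, h0, ← h1, e1])
  · rintro ⟨τ, hτ0, hτ⟩
    have e1 := mu_eq_of_rank_eq d 1 (τ * 1 ^ Nat.card ↥F₀) (hτ 1)
    rw [one_pow, mul_one, hmu1] at e1
    have hτ1 : τ = 1 := by
      by_contra hne
      by_cases hτζ : τ = ζ
      · rw [hτζ, hmuζ] at e1; omega
      · rw [hmu0 τ hτζ hne] at e1; omega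
    have e2 := mu_eq_of_rank_eq d ζ (τ * ζ ^ Nat.card ↥F₀) (hτ ζ)
    rw [hτ1, one_mul, hmuζ] at e2
    have hfix : ζ ^ Nat.card ↥F₀ = ζ := by
      by_contra hne
      by_cases h1 : ζ ^ Nat.card ↥F₀ = 1
      · rw [h1, hmu1] at e2; omega
      · rw [hmu0 _ hne h1] at e2
        have := hr.pos
        omega
    have h3 : ζ ^ (Nat.card ↥F₀ - 1) = 1 := by
      have h4 : ζ ^ (Nat.card ↥F₀ - 1) * ζ = 1 * ζ := by
        rw [← pow_succ, Nat.sub_add_cancel hq0, hfix, one_mul]
      exact mul_right_cancel₀ hζ0 h4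
    exact hζ1 (eq_one_of_pow r _ hr hNR ζ h3 hζ)

end Cfsg.Agent.H98.Sub
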