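import Mathlib
import Cfsg.Agent.H98.SubDiag
import Cfsg.Agent.H18.SubSYM

/-!
# S5965 team project, piece WE: the witness `diag(ζ, ζ⁻¹)` in dimension `2`
-/

set_option autoImplicit false

open scoped MatrixGroups

namespace Cfsg.Agent.H98.Sub

variable {F : Type*} [Field F] [Fintype F]

theorem exists_witness_E (F₀ : Subfield F) (r : ℕ) (hr : r.Prime) (hr2 : r ≠ 2)
    (hNR : ¬ r ∣ Nat.card ↥F₀ - 1) (hNR' : ¬ r ∣ Nat.card ↥F₀ + 1) (ζ : F) (hζ : ζ ^ r = 1)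
    (hζ1 : ζ ≠ 1) :
    ∃ M : Matrix (Fin 2) (Fin 2) F, M.det = 1 ∧ M ^ r = 1 ∧
      (∀ z : F, M ≠ z • (1 : Matrix (Fin 2) (Fin 2) F)) ∧
      ¬ ∃ τ : F, τ ≠ 0 ∧ ∀ ν : F, (M - ν • (1 : Matrix (Fin 2) (Fin 2) F)).rank
        = (M - (τ * ν ^ Nat.card ↥F₀) • (1 : Matrix (Fin 2) (Fin 2) F)).rank := by
  classical
  have hζ0 : ζ ≠ 0 := by
    rintro rfl
    rw [zero_pow hr.ne_zero] at hζ
    exact zero_ne_one hζ
  have hq0 : 0 < Nat.card ↥F₀ := Nat.card_pos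
  have hr2' : ¬ r ∣ 2 := fun h => hr2 ((Nat.prime_dvd_prime_iff_eq hr Nat.prime_two).mp h)
  -- an element of order dividing `r` whose square is `1` is `1`
  have hsq : ∀ θ : F, θ ^ 2 = 1 → θ ^ r = 1 → θ = 1 := fun θ h1 h2 =>
    eq_one_of_pow r 2 hr hr2' θ h1 h2
  have hne : ζ ≠ ζ⁻¹ := by
    intro h
    have h1 : ζ ^ 2 = 1 := by
      rw [pow_two]
      nth_rewrite 2 [h]
      exact mul_inv_cancel₀ hζ0
    exact hζ1 (hsq ζ h1 hζ)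
  obtain ⟨d, hd⟩ : ∃ d : Fin 2 → F, d = ![ζ, ζ⁻¹] := ⟨_, rfl⟩
  have hd0 : d 0 = ζ := by rw [hd]; rfl
  have hd1 : d 1 = ζ⁻¹ := by rw [hd]; rfl
  have hval : ∀ ν, 0 < mu d ν → ν = ζ ∨ ν = ζ⁻¹ := by
    intro ν h
    obtain ⟨i, hi⟩ := (mu_pos_iff d ν).mp h
    fin_cases i
    · left
      have hi' : d 0 = ν := hi
      rw [← hi', hd0]
    · right
      have hi' : d 1 = ν := hi
      rw [← hi', hd1]
  have hpos0 : 0 < mu d ζ := (mu_pos_iff d ζ).mpr ⟨0, hd0⟩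
  have hpos1 : 0 < mu d ζ⁻¹ := (mu_pos_iff d ζ⁻¹).mpr ⟨1, hd1⟩
  refine ⟨Matrix.diagonal d, ?_, ?_, ?_, ?_⟩
  · rw [Matrix.det_diagonal, Fin.prod_univ_two, hd0, hd1]
    exact mul_inv_cancel₀ hζ0
  · rw [Matrix.diagonal_pow]
    have e : d ^ r = fun _ => (1 : F) := by
      funext i
      rw [Pi.pow_apply]
      fin_cases i
      · show d 0 ^ r = 1
        rw [hd0]; exact hζ
      · show d 1 ^ r = 1
        rw [hd1, inv_pow, hζ, inv_one]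
    rw [e]
    exact Matrix.diagonal_one
  · intro z hz
    rw [Matrix.smul_one_eq_diagonal] at hz
    have hinj := Matrix.diagonal_injective hz
    have h0 : d 0 = z := congrFun hinj 0
    have h1 : d 1 = z := congrFun hinj 1
    exact hne (hd0.symm.trans (h0.trans (h1.symm.trans hd1)))
  · rintro ⟨τ, hτ0, hτ⟩
    obtain ⟨σ, hσ⟩ := Cfsg.Agent.H18.Sub.exists_frob F₀
    have hσinj : Function.Injective σ := σ.injective
    obtain ⟨s, hs⟩ : ∃ s : F, s = ζ ^ Nat.card ↥F₀ := ⟨_, rfl⟩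
    have hs0 : s ≠ 0 := by rw [hs]; exact pow_ne_zero _ hζ0
    have e1 := mu_eq_of_rank_eq d ζ (τ * ζ ^ Nat.card ↥F₀) (hτ ζ)
    have e2 := mu_eq_of_rank_eq d ζ⁻¹ (τ * ζ⁻¹ ^ Nat.card ↥F₀) (hτ ζ⁻¹)
    rw [← hs] at e1
    rw [inv_pow, ← hs] at e2
    have c1 := hval (τ * s) (by omega)
    have c2 := hval (τ * s⁻¹) (by omega)
    -- the two images are different
    have hdiff : τ * s ≠ τ * s⁻¹ := by
      intro h
      have h1 : s = s⁻¹ := mul_left_cancel₀ hτ0 h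
      have h2 : s ^ 2 = 1 := by
        rw [pow_two]
        nth_rewrite 2 [h1]
        exact mul_inv_cancel₀ hs0
      have h3 : σ (ζ ^ 2) = σ 1 := by
        rw [hσ, map_one, ← pow_mul, mul_comm, pow_mul, ← hs, h2]
      exact hζ1 (hsq ζ (hσinj h3) hζ)
    have hs2 : s ^ 2 = (τ * s) * (τ * s⁻¹)⁻¹ := by
      field_simp
    rcases c1 with c1 | c1 <;> rcases c2 with c2 | c2
    · exact hdiff (c1.trans c2.symm)
    · -- fixes both: `ζ ^ (2 (q₀ - 1)) = 1`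
      rw [c1, c2, inv_inv, hs] at hs2
      have h1 : (ζ ^ (Nat.card ↥F₀ - 1)) ^ 2 * ζ ^ 2 = 1 * ζ ^ 2 := by
        rw [one_mul, ← mul_pow, ← pow_succ, Nat.sub_add_cancel hq0, hs2]; ring
      have h2 : (ζ ^ (Nat.card ↥F₀ - 1)) ^ 2 = 1 := mul_right_cancel₀ (pow_ne_zero 2 hζ0) h1
      have h3 : (ζ ^ (Nat.card ↥F₀ - 1)) ^ r = 1 := by
        rw [← pow_mul, mul_comm, pow_mul, hζ, one_pow]
      exact hζ1 (eq_one_of_pow r _ hr hNR ζ (hsq _ h2 h3) hζ)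
    · -- swaps them: `ζ ^ (2 (q₀ + 1)) = 1`
      rw [c1, c2, hs] at hs2
      have h2 : (ζ ^ (Nat.card ↥F₀ + 1)) ^ 2 = 1 := by
        have e : (ζ ^ (Nat.card ↥F₀ + 1)) ^ 2 = (ζ ^ Nat.card ↥F₀) ^ 2 * ζ ^ 2 := by ring
        rw [e, hs2]
        field_simp
      have h3 : (ζ ^ (Nat.card ↥F₀ + 1)) ^ r = 1 := by
        rw [← pow_mul, mul_comm, pow_mul, hζ, one_pow]
      exact hζ1 (eq_one_of_pow r _ hr hNR' ζ (hsq _ h2 h3) hζ)
    · exact hdiff (c1.trans c2.symm)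

end Cfsg.Agent.H98.Sub
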