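import Mathlib

/-!
# helper98: maximal subgroups of a subgroup (`IsCoatom (H.subgroupOf K)`)
-/

set_option autoImplicit false

namespace Cfsg.Agent.H98

/-- `H` is a maximal subgroup of `K` (as a subgroup of `↥K`) iff `H ≠ K` and every subgroup
strictly between does not exist. -/
theorem isCoatom_subgroupOf_iff {G : Type*} [Group G] {H K : Subgroup G} (hHK : H ≤ K) :
    IsCoatom (H.subgroupOf K) ↔ H ≠ K ∧ ∀ Y : Subgroup G, H < Y → Y ≤ K → Y = K := by
  constructor
  · rintro ⟨hne, hmax⟩
    refine ⟨fun h => hne (by rw [h, Subgroup.subgroupOf_self]), fun Y hHY hYK => ?_⟩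
    have hlt : H.subgroupOf K < Y.subgroupOf K := by
      refine lt_of_le_of_ne (Subgroup.subgroupOf_mono K hHY.le) ?_
      intro heq
      rw [Subgroup.subgroupOf_inj, inf_eq_left.mpr hHK, inf_eq_left.mpr hYK] at heq
      exact hHY.ne heq
    exact le_antisymm hYK (Subgroup.subgroupOf_eq_top.mp (hmax _ hlt))
  · rintro ⟨hne, hmax⟩
    refine ⟨fun h => hne (le_antisymm hHK (Subgroup.subgroupOf_eq_top.mp h)), fun Z hZ => ?_⟩
    have hYK : Z.map K.subtype ≤ K := Subgroup.map_subtype_le Z
    have hHY : H < Z.map K.subtype := by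
      have h1 : H = (H.subgroupOf K).map K.subtype := (Subgroup.map_subgroupOf_eq_of_le hHK).symm
      rw [h1]
      exact (Subgroup.map_lt_map_iff_of_injective K.subtype_injective).mpr hZ
    have h3 := hmax _ hHY hYK
    have h2 : (Z.map K.subtype).subgroupOf K = Z :=
      Subgroup.comap_map_eq_self_of_injective K.subtype_injective Z
    rw [← h2, h3, Subgroup.subgroupOf_self]

/-- An intermediate subgroup shows that `H` is not maximal in `K`. -/
theorem not_isCoatom_subgroupOf {G : Type*} [Group G] {H Y K : Subgroup G}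
    (hHY : H < Y) (hYK : Y < K) : ¬ IsCoatom (H.subgroupOf K) := by
  intro h
  have := ((isCoatom_subgroupOf_iff (hHY.le.trans hYK.le)).mp h).2 Y hHY hYK.le
  exact hYK.ne this

/-- Transport of maximality along an injective homomorphism. -/
theorem isCoatom_map_subgroupOf_range {G G' : Type*} [Group G] [Group G'] (φ : G →* G')
    (hφ : Function.Injective φ) (S : Subgroup G) :
    IsCoatom ((S.map φ).subgroupOf φ.range) ↔ IsCoatom S := by
  have : (S.map φ).subgroupOf φ.range = S.map (MonoidHom.ofInjective hφ : G →* φ.range) := by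
    ext ⟨x, hx⟩
    simp only [Subgroup.mem_subgroupOf, Subgroup.mem_map]
    constructor
    · rintro ⟨s, hs, rfl⟩
      exact ⟨s, hs, Subtype.ext (MonoidHom.ofInjective_apply hφ)⟩
    · rintro ⟨s, hs, h⟩
      refine ⟨s, hs, ?_⟩
      have := congrArg Subtype.val h
      exact (MonoidHom.ofInjective_apply hφ).symm.trans this
  rw [this]
  exact OrderIso.isCoatom_iff (MulEquiv.mapSubgroup (MonoidHom.ofInjective hφ)) S

end Cfsg.Agent.H98
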