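import Mathlib
import Cfsg.Agent.H77.TqDefs
import Cfsg.Agent.H49.Basic
import Cfsg.Agent.H98.TqLin

set_option autoImplicit false
open scoped MatrixGroups
open scoped Matrix

/-!
Piece S5978-LIFT of the team project S5978 (helper77): the isometry group of the diagonal form over
`L` embeds into the isometries of `Q` commuting with `K`.
-/

namespace Cfsg.Agent.H98.Tq

open Module Cfsg.Agent.H77.Tq

universe u

/-- Transport of `L`-matrices to `F`-matrices along `φ`. -/
noncomputable def liftM {F : Type u} [Field F] {ι : Type} [Fintype ι] [DecidableEq ι]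
    {L : Type u} [Field L] [Algebra F L] {n : ℕ} (φ : (Fin n → L) ≃ₗ[F] (ι → F)) :
    Matrix (Fin n) (Fin n) L →* Matrix ι ι F where
  toFun A := LinearMap.toMatrix' (φ.toLinearMap ∘ₗ (A.mulVecLin.restrictScalars F) ∘ₗ
    φ.symm.toLinearMap)
  map_one' := by
    have h : φ.toLinearMap ∘ₗ ((1 : Matrix (Fin n) (Fin n) L).mulVecLin.restrictScalars F) ∘ₗ
        φ.symm.toLinearMap = LinearMap.id := by
      refine LinearMap.ext fun v => ?_
      simp only [LinearMap.comp_apply, LinearEquiv.coe_coe, LinearMap.restrictScalars_apply,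
        Matrix.mulVecLin_apply, Matrix.one_mulVec, LinearEquiv.apply_symm_apply,
        LinearMap.id_apply]
    rw [h, LinearMap.toMatrix'_id]
  map_mul' := by
    intro A B
    rw [← LinearMap.toMatrix'_comp]
    congr 1
    refine LinearMap.ext fun v => ?_
    simp only [LinearMap.comp_apply, LinearEquiv.coe_coe, LinearMap.restrictScalars_apply,
      Matrix.mulVecLin_apply, LinearEquiv.symm_apply_apply, Matrix.mulVec_mulVec]

theorem liftM_mulVec {F : Type u} [Field F] {ι : Type} [Fintype ι] [DecidableEq ι]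
    {L : Type u} [Field L] [Algebra F L] {n : ℕ} (φ : (Fin n → L) ≃ₗ[F] (ι → F))
    (A : Matrix (Fin n) (Fin n) L) (w : Fin n → L) :
    liftM φ A *ᵥ φ w = φ (A *ᵥ w) := by
  show LinearMap.toMatrix' (φ.toLinearMap ∘ₗ (A.mulVecLin.restrictScalars F) ∘ₗ
    φ.symm.toLinearMap) *ᵥ φ w = φ (A *ᵥ w)
  rw [← Matrix.toLin'_apply, Matrix.toLin'_toMatrix']
  simp

theorem lift : StLift.{u} := by
  intro F _ _ ι _ _ Q K L _ _ _ n ψ φ α hKO hKC
  classical
  refine ⟨(Units.map (liftM φ)).comp
    (Cfsg.isometryGroup L (fun w : Fin n → L => ∑ l, α l * w l ^ 2)).subtype, ?_, ?_, ?_, ?_⟩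
  · -- injective
    intro Y Y' h
    apply Subtype.ext
    apply Units.ext
    apply mat_ext_mulVec
    intro w
    have h1 : liftM φ ((Y : GL (Fin n) L) : Matrix (Fin n) (Fin n) L) =
        liftM φ ((Y' : GL (Fin n) L) : Matrix (Fin n) (Fin n) L) := congrArg Units.val h
    have h2 := liftM_mulVec φ ((Y : GL (Fin n) L) : Matrix (Fin n) (Fin n) L) w
    have h3 := liftM_mulVec φ ((Y' : GL (Fin n) L) : Matrix (Fin n) (Fin n) L) w
    rw [h1, h3] at h2
    exact φ.injective h2.symm
  · -- isometry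
    intro Y
    rw [Cfsg.Agent.H49.mem_isometryGroup_iff]
    intro u
    obtain ⟨w, rfl⟩ := φ.surjective u
    have hY := Cfsg.Agent.H49.mem_isometryGroup_iff.mp Y.2 w
    have hQ : ∀ w : Fin n → L, (2 : F) * Q (φ w) = Algebra.trace F L (∑ l, α l * w l ^ 2) := by
      intro w
      have h := hKC.form w w
      rw [QuadraticMap.polar_self, two_nsmul, ← two_mul] at h
      rw [h]
      congr 1
      refine Finset.sum_congr rfl fun l _ => ?_
      ring
    have h1 : (2 : F) * Q ((liftM φ ((Y : GL (Fin n) L) : Matrix (Fin n) (Fin n) L)) *ᵥ φ w) =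
        (2 : F) * Q (φ w) := by
      rw [liftM_mulVec, hQ, hQ]
      exact congrArg _ hY
    exact mul_left_cancel₀ hKO.two h1
  · -- commutes with K
    intro Y a ha
    obtain ⟨c, rfl⟩ := hKC.surj a ha
    apply mat_ext_mulVec
    intro u
    obtain ⟨w, rfl⟩ := φ.surjective u
    show (liftM φ ((Y : GL (Fin n) L) : Matrix (Fin n) (Fin n) L) * ψ c) *ᵥ φ w =
      (ψ c * liftM φ ((Y : GL (Fin n) L) : Matrix (Fin n) (Fin n) L)) *ᵥ φ w
    rw [← Matrix.mulVec_mulVec, ← Matrix.mulVec_mulVec, ← hKC.smul, liftM_mulVec, liftM_mulVec,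
      ← hKC.smul, Matrix.mulVec_smul]
  · intro Y w
    exact (liftM_mulVec φ _ w).symm

example : StLift.{u} := lift

end Cfsg.Agent.H98.Tq
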